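/-
The fixed transpositions of the outer involution of Fi22 and their blocks (helper23).

Main results (namespace `Cfsg.Agent.FischerM22.Outer`):
* `fpt`, `exists_fpt`, `rho_row`: the fixed points and their members;
* `Cs`, `act360`, `lab3`: the centraliser and its action on the points and the blocks;
* `line_fixed`: an element of the centraliser of the base point fixing fixed points fixes lines;
* `eq_one_of_fix`: only one fixes a block.
-/
import Cfsg.Agent.Lib.FischerM22.Outer.FixedCheck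

set_option autoImplicit false
set_option maxRecDepth 100000

namespace Cfsg.Agent.FischerM22.Outer

open Cfsg.Agent.CosetEnum Cfsg.Agent.CosetEnum.Data
open Cfsg.Agent.Fi22U62 (rho pt0 z0 rho_injective Hs mem_Hs_iff lab sec pperm phi V6 tv)
open Cfsg.Agent.Fi22Aut (model okw V P pt ctx model_rho model_d0)
open Cfsg.Agent.Unitary (GF4 suAct)

attribute [local irreducible] frow fnum posTab piN

theorem fix_facts : fpts.length = 360 ∧ fnum 0 = 0 ∧
    (∀ k < 360, fnum k < 3510 ∧ lane 13 posTab (fnum k) = k + 1 ∧ piN (fnum k) = fnum k) ∧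
    ∀ i < 3510, piN i = i → ∃ k < 360, fnum k = i := by
  have h := fix_check
  simp only [force_eq, Bool.and_eq_true, Bool.or_eq_true, List.all_eq_true, Bool.not_eq_true', Nat.blt_eq,
    Nat.ble_eq, List.mem_range] at h
  obtain ⟨h0, -, -, h1, h2, h3⟩ := h
  refine ⟨Nat.eq_of_beq_eq_true h0, Nat.eq_of_beq_eq_true h1, fun k hk => ?_, fun i hi hpi => ?_⟩
  · obtain ⟨a, b, c⟩ := h2 k hk
    exact ⟨a, Nat.eq_of_beq_eq_true b, Nat.eq_of_beq_eq_true c⟩
  · rcases h3 i hi with e | ⟨e1, e2, e3⟩
    · rw [hpi, Nat.beq_refl] at e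
      exact absurd e (by decide)
    · refine ⟨lane 13 posTab i - 1, ?_, Nat.eq_of_beq_eq_true e3⟩
      have : lane 13 posTab i ≠ 0 := fun h0 => by rw [h0] at e1; exact absurd e1 (by decide)
      omega

/-- A fixed point. -/
noncomputable def fpt (k : Fin 360) : Fin N22 := ⟨fnum k, (fix_facts.2.2.1 k k.2).1⟩

theorem fpt_injective : Function.Injective fpt := fun a b h => Fin.ext (by
  have ha := (fix_facts.2.2.1 a a.2).2.1
  have hb := (fix_facts.2.2.1 b b.2).2.1
  rw [show fnum a = fnum b from congrArg Fin.val h] at ha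
  omega)

theorem sPerm_fpt (k : Fin 360) : sPerm (fpt k) = fpt k := Fin.ext (fix_facts.2.2.1 k k.2).2.2

theorem exists_fpt {i : Fin N22} (h : sPerm i = i) : ∃ k, fpt k = i := by
  obtain ⟨k, hk, e⟩ := fix_facts.2.2.2 i i.2 (congrArg Fin.val h)
  exact ⟨⟨k, hk⟩, Fin.ext e⟩

theorem fpt_zero : fpt 0 = pt0 := Fin.ext fix_facts.2.1

theorem d_sq (i : Fin N22) : model.d i * model.d i = 1 := by
  obtain ⟨g, rfl⟩ := model.trans pt0 i
  rw [model.conj, model_d0, conj_mul, Fi22U62.z0_sq]
  group

theorem d_inv (i : Fin N22) : (model.d i)⁻¹ = model.d i := inv_eq_of_mul_eq_one_right (d_sq i)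

theorem fact_lt_of_rows : ∀ (l : List (ℕ × ℕ × ℕ)) (known : List ℕ),
    (∀ k ∈ known, ∀ hk : k < 360, ∀ q : Fin 360, ∃ hr : fact k q < 360,
      rho (model.d (fpt ⟨k, hk⟩)) (fpt q) = fpt ⟨fact k q, hr⟩) →
    (∀ k ∈ known, k < 360) →
    scriptOK known l = true → ∀ k : Fin 360, ∀ q : Fin 360, ∃ hr : fact k q < 360,
      rho (model.d (fpt k)) (fpt q) = fpt ⟨fact k q, hr⟩
  | [], known, hk, _, h, k => by
    simp only [scriptOK, List.all_eq_true, List.contains_iff_mem, List.mem_range] at h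
    exact hk k (h k k.2) k.2
  | (new, a, old) :: l, known, hk, hlt, h, k => by
    simp only [scriptOK, force_eq, Bool.and_eq_true, List.all_eq_true, List.contains_iff_mem, List.mem_range] at h
    obtain ⟨⟨ha, ho⟩, ⟨hnew, hrow⟩, hrec⟩ := h
    have ha' := hlt a ha
    have ho' := hlt old ho
    obtain ⟨hn', hna⟩ := hk a ha ha' ⟨old, ho'⟩
    have enew : fact a old = new := Nat.eq_of_beq_eq_true hnew
    refine fact_lt_of_rows l (new :: known) (fun m hm hm' q => ?_) (fun m hm => ?_) hrec k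
    · rcases List.mem_cons.mp hm with rfl | hm
      · obtain ⟨r1, e1⟩ := hk a ha ha' q
        obtain ⟨r2, e2⟩ := hk old ho ho' ⟨_, r1⟩
        obtain ⟨r3, e3⟩ := hk a ha ha' ⟨_, r2⟩
        have e : fact m q = fact a (fact old (fact a q)) := Nat.eq_of_beq_eq_true (hrow q q.2)
        have em : (⟨m, hm'⟩ : Fin 360) = ⟨fact a old, hn'⟩ := Fin.ext enew.symm
        refine ⟨e ▸ r3, ?_⟩
        rw [em, ← hna, ← conj_d, map_mul, map_mul, Equiv.Perm.mul_apply, Equiv.Perm.mul_apply, d_inv, e1, e2, e3]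
        exact congrArg fpt (Fin.ext e.symm)
      · exact hk m hm hm' q
    · rcases List.mem_cons.mp hm with rfl | hm
      · exact enew ▸ hn'
      · exact hlt m hm

/-- The members on the fixed points. -/
theorem rho_row (k q : Fin 360) : ∃ hr : fact k q < 360, rho (model.d (fpt k)) (fpt q) = fpt ⟨fact k q, hr⟩ := by
  have hg := gens_check
  simp only [List.all_eq_true, genRowOK, force_eq, Bool.and_eq_true, Nat.blt_eq, List.mem_range] at hg
  refine fact_lt_of_rows fscript (fgens.map fun x => x.1) (fun a ha ha' q => ?_) (fun a ha => ?_) script_check k q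
  · obtain ⟨⟨a', w⟩, hm, rfl⟩ := List.mem_map.mp ha
    obtain ⟨-, hw, hP, hrow⟩ := hg _ hm
    obtain ⟨hr, he⟩ := hrow q q.2
    refine ⟨hr, Fin.ext ?_⟩
    have ep : pt w = fpt ⟨a', ha'⟩ := Fin.ext (by
      rw [← Fi22Aut.P_eq hw]
      exact Nat.eq_of_beq_eq_true hP)
    rw [← ep]
    have h2 := ctx.hV w hw (fpt q)
    rw [model_rho] at h2
    exact h2.symm.trans (Nat.eq_of_beq_eq_true he)
  · obtain ⟨⟨a', w⟩, hm, rfl⟩ := List.mem_map.mp ha
    exact (hg _ hm).1

/-- A member of the fixed points as a map of their indices. -/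
noncomputable def fmap (k q : Fin 360) : Fin 360 := ⟨fact k q, (rho_row k q).1⟩

theorem rho_fmap (k q : Fin 360) : rho (model.d (fpt k)) (fpt q) = fpt (fmap k q) := (rho_row k q).2

theorem adj_fpt (k q : Fin 360) : model.Adj (fpt k) (fpt q) ↔ fact k q = q := by
  show rho _ _ = _ ↔ _
  rw [rho_fmap, fpt_injective.eq_iff, Fin.ext_iff]
  rfl

/-! ### Blocks -/

/-- The block of an index. -/
def blk (k : Fin 360) : Fin 3 := ⟨(k : ℕ) / 120, by omega⟩

theorem blk_of_adj {k q : Fin 360} (h : model.Adj (fpt k) (fpt q)) : blk k = blk q := by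
  have h1 := List.all_eq_true.mp cross_check k (List.mem_range.mpr k.2)
  simp only [force_eq, List.all_eq_true, Bool.or_eq_true, Bool.not_eq_true', List.mem_range] at h1
  rcases h1 q q.2 with e | e
  · exact Fin.ext (Nat.eq_of_beq_eq_true e)
  · rw [show lane 9 (frow k) q = (q : ℕ) from (adj_fpt k q).mp h, Nat.beq_refl] at e
    exact absurd e (by decide)

theorem exists_parent (k : Fin 360) (h : (k : ℕ) % 120 ≠ 0) :
    ∃ q : Fin 360, (q : ℕ) < k ∧ blk q = blk k ∧ model.Adj (fpt q) (fpt k) := by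
  have h1 := List.all_eq_true.mp tree_check k (List.mem_range.mpr k.2)
  simp only [force_eq, Bool.and_eq_true, Bool.or_eq_true, Nat.blt_eq] at h1
  rcases h1 with e | ⟨e1, e2, e3⟩
  · exact absurd (Nat.eq_of_beq_eq_true e) h
  · exact ⟨⟨fpar.getD k 0, lt_trans e1 k.2⟩, e1, Fin.ext (Nat.eq_of_beq_eq_true e2),
      (adj_fpt _ _).mpr (Nat.eq_of_beq_eq_true e3)⟩

/-! ### The centraliser -/

/-- The centraliser of the involution. -/
noncomputable def Cs : Subgroup G22 where
  carrier := {g | s g = g}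
  one_mem' := map_one s
  mul_mem' := fun {a b} ha hb => by
    show s (a * b) = a * b
    rw [map_mul, ha, hb]
  inv_mem' := fun {a} ha => by
    show s a⁻¹ = a⁻¹
    rw [map_inv, ha]

theorem mem_Cs {g : G22} : g ∈ Cs ↔ s g = g := Iff.rfl

theorem mem_Cs_iff {g : G22} : g ∈ Cs ↔ sPerm * rho g = rho g * sPerm := fixed_iff acts_s g

theorem d_fpt_mem (k : Fin 360) : model.d (fpt k) ∈ Cs := by
  rw [mem_Cs, acts_s, sPerm_fpt]

theorem exists_image360 (g : Cs) (k : Fin 360) : ∃ q, fpt q = rho (g : G22) (fpt k) := exists_fpt (by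
  have h := congrArg (fun π : Equiv.Perm (Fin N22) => π (fpt k)) (mem_Cs_iff.mp g.2)
  simp only [Equiv.Perm.mul_apply, sPerm_fpt] at h
  exact h)

/-- The image of an index. -/
noncomputable def img360 (g : Cs) (k : Fin 360) : Fin 360 := (exists_image360 g k).choose

theorem fpt_img360 (g : Cs) (k : Fin 360) : fpt (img360 g k) = rho (g : G22) (fpt k) := (exists_image360 g k).choose_spec

/-- The action on the fixed points. -/
noncomputable def act360 : Cs →* Equiv.Perm (Fin 360) where
  toFun g :=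
    { toFun := img360 g
      invFun := img360 g⁻¹
      left_inv := fun k => fpt_injective (by
        rw [fpt_img360, fpt_img360, Subgroup.coe_inv, map_inv]
        exact (rho (g : G22)).symm_apply_apply _)
      right_inv := fun k => fpt_injective (by
        rw [fpt_img360, fpt_img360, Subgroup.coe_inv, map_inv]
        exact (rho (g : G22)).apply_symm_apply _) }
  map_one' := Equiv.ext fun k => fpt_injective (by
    show fpt (img360 1 k) = _
    rw [fpt_img360, Subgroup.coe_one, map_one]; rfl)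
  map_mul' g h := Equiv.ext fun k => fpt_injective (by
    show fpt (img360 (g * h) k) = fpt (img360 g (img360 h k))
    rw [fpt_img360, fpt_img360, fpt_img360, Subgroup.coe_mul, map_mul, Equiv.Perm.mul_apply])

theorem fpt_act (g : Cs) (k : Fin 360) : fpt (act360 g k) = rho (g : G22) (fpt k) := fpt_img360 g k

/-- A member in the centraliser. -/
noncomputable def mem360 (k : Fin 360) : Cs := ⟨model.d (fpt k), d_fpt_mem k⟩

theorem act_mem360 (k q : Fin 360) : act360 (mem360 k) q = fmap k q := fpt_injective (by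
  rw [fpt_act, ← rho_fmap]; rfl)

/-- The root of a block. -/
def root (c : Fin 3) : Fin 360 := ⟨120 * (c : ℕ), by omega⟩

theorem blk_root (c : Fin 3) : blk (root c) = c := Fin.ext (by show 120 * (c : ℕ) / 120 = c; omega)

theorem blk_act (g : Cs) (k : Fin 360) : blk (act360 g k) = blk (act360 g (root (blk k))) := by
  obtain ⟨k, hk⟩ := k
  induction k using Nat.strong_induction_on with
  | _ k ih =>
    by_cases h : k % 120 = 0
    · rw [show root (blk ⟨k, hk⟩) = ⟨k, hk⟩ from Fin.ext (show 120 * (k / 120) = k by omega)]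
    · obtain ⟨⟨q, hq⟩, hlt, hb, hadj⟩ := exists_parent ⟨k, hk⟩ h
      rw [← hb, ← ih q hlt hq]
      refine (blk_of_adj ?_).symm
      rw [fpt_act, fpt_act]
      exact (model.adj_map (g : G22) _ _).mpr hadj

/-- The image of a block. -/
noncomputable def img3 (g : Cs) (c : Fin 3) : Fin 3 := blk (act360 g (root c))

theorem blk_eq (g : Cs) (k : Fin 360) : blk (act360 g k) = img3 g (blk k) := blk_act g k

/-- The action on the blocks. -/
noncomputable def lab3 : Cs →* Equiv.Perm (Fin 3) where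
  toFun g :=
    { toFun := img3 g
      invFun := img3 g⁻¹
      left_inv := fun c => by
        show img3 g⁻¹ (blk (act360 g (root c))) = c
        rw [← blk_eq, map_inv, Equiv.Perm.inv_def, Equiv.symm_apply_apply, blk_root]
      right_inv := fun c => by
        show img3 g (blk (act360 g⁻¹ (root c))) = c
        rw [← blk_eq, map_inv, Equiv.Perm.inv_def, Equiv.apply_symm_apply, blk_root] }
  map_one' := Equiv.ext fun c => by
    show blk (act360 1 (root c)) = c
    rw [map_one, Equiv.Perm.one_apply, blk_root]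
  map_mul' g h := Equiv.ext fun c => by
    show blk (act360 (g * h) (root c)) = img3 g (blk (act360 h (root c)))
    rw [← blk_eq, map_mul, Equiv.Perm.mul_apply]

theorem blk_act360 (g : Cs) (k : Fin 360) : blk (act360 g k) = lab3 g (blk k) := blk_eq g k

/-! ### Elements fixing fixed points -/

theorem fixed_iso {v : V6} (hv : B v = v) (hv0 : v ≠ 0) : Fi22U62.Iso v := by
  refine ⟨hv0, ?_⟩
  show ThreeTransSU.hf v v = 0
  have hc : ∀ k, ThreeTransSU.hf v (E k) = 0 ∨ ThreeTransSU.hf v (E k) = 1 := fun k => by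
    refine fixed_cases _ ?_
    conv_rhs => rw [← hv, ← B_E k, hf_B]
  conv_lhs => arg 1; rw [expand v]
  rw [Fin.sum_univ_six]
  simp only [show pr 0 = 1 from rfl, show pr 1 = 0 from rfl, show pr 2 = 3 from rfl, show pr 3 = 2 from rfl,
    show pr 4 = 5 from rfl, show pr 5 = 4 from rfl, ThreeTransSU.hf_add_left hF4, ThreeTransSU.hf_smul_left hF4]
  have hs : ∀ k, ThreeTransSU.hf (E k) v = ThreeTransSU.hf v (E k) := fun k => by
    rw [hf_symm]
    rcases hc k with e | e <;> rw [e] <;> rfl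
  simp only [hs]
  have hz : ∀ a b c x y z : GF4, a * x + x * a + b * y + y * b + c * z + z * c = 0 := fun a b c x y z => by
    linear_combination (a * x + b * y + c * z) * add_self' (1 : GF4)
  exact hz _ _ _ _ _ _

theorem beta_pid {v : V6} (hv : B v = v) (hI : Fi22U62.Iso v) :
    beta ⟨Fi22U62.pid v, hI.exists_smul.1⟩ = ⟨Fi22U62.pid v, hI.exists_smul.1⟩ := Fin.ext (by
  rw [beta_val, ← pid_B hI, hv])

theorem adj_mem693 (j : Fin 693) : model.Adj pt0 (mem693 j) := by
  obtain ⟨h, hh, -⟩ := member_phi j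
  show rho (model.d pt0) (mem693 j) = mem693 j
  apply model.inj
  rw [model_rho.symm, model.conj, model_d0, ← hh, ← Fi22U62.z0_comm h.2, mul_inv_cancel_right]

/-- An element of the centraliser fixing a fixed point fixes its line. -/
theorem line_fixed (g : Hs) (A : SU6) (hA : phi g = pperm A) {v : V6} (hI : Fi22U62.Iso v)
    (h : rho (g : G22) (mem693 ⟨Fi22U62.pid v, hI.exists_smul.1⟩) = mem693 ⟨Fi22U62.pid v, hI.exists_smul.1⟩) :
    ∃ r : GF4, suAct A v = r • v := by
  obtain ⟨hlt, c, hc, e⟩ := hI.exists_smul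
  rw [phi_spec, hA] at h
  have h' : pperm A ⟨Fi22U62.pid v, hlt⟩ = ⟨Fi22U62.pid v, hlt⟩ := by
    have := congrArg (fun i : Fin N22 => lab i) h
    simp only [lab_mem693] at this
    exact Fin.ext (Nat.succ.inj this)
  have hp := congrArg Fin.val h'
  rw [Fi22U62.pperm_apply] at hp
  obtain ⟨-, r, -, e'⟩ := ((Fi22U62.iso_pt ⟨_, hlt⟩).suAct A).exists_smul
  rw [hp] at e'
  refine ⟨r, ?_⟩
  conv_lhs => rw [e, Unitary.suAct_smul, e', smul_comm, ← e]

theorem ker_phi_cases {g : Hs} (h : phi g = 1) : (g : G22) = 1 ∨ (g : G22) = z0 := by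
  have hz : phi ⟨z0, Fi22U62.z0_mem⟩ = 1 := by
    rw [← MonoidHom.mem_ker, ← Fi22U62.center_eq_ker, Subgroup.mem_center_iff]
    exact fun x => Subtype.ext (Fi22U62.z0_comm x.2)
  obtain ⟨y, -, huniq⟩ := (Nat.card_eq_two_iff' (1 : phi.ker)).mp Fi22U62.card_ker
  by_contra hc
  push Not at hc
  have h1 : (⟨g, h⟩ : phi.ker) ≠ 1 := fun e => hc.1 (congrArg (fun x : phi.ker => ((x : Hs) : G22)) e)
  have h2 : (⟨⟨z0, Fi22U62.z0_mem⟩, hz⟩ : phi.ker) ≠ 1 :=
    fun e => Fi22U62.z0_ne (congrArg (fun x : phi.ker => ((x : Hs) : G22)) e)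
  exact hc.2 (congrArg (fun x : phi.ker => ((x : Hs) : G22)) ((huniq _ h1).trans (huniq _ h2).symm))

theorem phi_eq_one_of_center {A : SU6} (h : A ∈ Subgroup.center SU6) : pperm A = 1 := by
  rw [← Fi22U62.ker_pperm, MonoidHom.mem_ker] at h
  exact h

theorem blk_zero_of_lt {k : Fin 360} (h : (k : ℕ) < 120) : blk k = 0 := Fin.ext (show (k : ℕ) / 120 = 0 by omega)

theorem lt_of_blk_zero {k : Fin 360} (h : blk k = 0) : (k : ℕ) < 120 := by
  have : (k : ℕ) / 120 = 0 := congrArg Fin.val h
  omega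

/-- Only one fixes the first block. -/
theorem eq_one_of_fix {g : G22} (h : ∀ k : Fin 360, (k : ℕ) < 120 → rho g (fpt k) = fpt k) : g = 1 := by
  have hg0 : g ∈ Hs := by
    rw [mem_Hs_iff, ← fpt_zero]
    exact h 0 (by norm_num)
  obtain ⟨A, hA⟩ : phi ⟨g, hg0⟩ ∈ pperm.range := Fi22U62.range_eq ▸ MonoidHom.mem_range.mpr ⟨_, rfl⟩
  have hc : A ∈ Subgroup.center SU6 := all_lines fun v hv0 hv => by
    have hI := fixed_iso hv hv0
    refine line_fixed ⟨g, hg0⟩ A hA.symm hI ?_
    have hfix : sPerm (mem693 ⟨Fi22U62.pid v, hI.exists_smul.1⟩) = mem693 ⟨Fi22U62.pid v, hI.exists_smul.1⟩ := by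
      rw [sPerm_mem693, beta_pid hv hI]
    obtain ⟨k, hk⟩ := exists_fpt hfix
    rw [← hk]
    refine h k (lt_of_blk_zero ?_)
    rw [← blk_of_adj (k := 0) (q := k) (by rw [fpt_zero, hk]; exact adj_mem693 _)]
    rfl
  rcases ker_phi_cases (g := ⟨g, hg0⟩) (by rw [← hA, phi_eq_one_of_center hc]) with e | e
  · exact e
  · exfalso
    subst e
    have hw := witness0
    obtain ⟨k, hk, hne⟩ := hw
    exact hne (h k hk)
where
  witness0 : ∃ k : Fin 360, (k : ℕ) < 120 ∧ rho z0 (fpt k) ≠ fpt k := by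
    have hc : ((List.range 120).any fun k => !Nat.beq (fact 0 k) k) = true := by decide +kernel
    obtain ⟨k, hk, hne⟩ := List.any_eq_true.mp hc
    refine ⟨⟨k, by have := List.mem_range.mp hk; omega⟩, List.mem_range.mp hk, fun e => ?_⟩
    rw [← model_d0, ← fpt_zero] at e
    have := (adj_fpt 0 ⟨k, _⟩).mp e
    simp only [Fin.val_zero] at this
    rw [this, Nat.beq_refl] at hne
    exact absurd hne (by decide)

theorem s_ne_conj (g : G22) : s ≠ MulAut.conj g := by
  intro h
  have hr := acts_s.unique (h ▸ acts_conj g)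
  have hg : g = 1 := eq_one_of_fix fun k _ => by rw [← hr, sPerm_fpt]
  have h1 : sPerm = 1 := by rw [hr, hg, map_one]
  have hc : ((List.range 3510).any fun i => !Nat.beq (piN i) i) = true := by decide +kernel
  obtain ⟨i, hi, hne⟩ := List.any_eq_true.mp hc
  have := congrArg (fun π : Equiv.Perm (Fin N22) => ((π ⟨i, List.mem_range.mp hi⟩ : Fin N22) : ℕ)) h1
  simp only [sPerm_val, Equiv.Perm.one_apply] at this
  rw [this, Nat.beq_refl] at hne
  exact absurd hne (by decide)

end Cfsg.Agent.FischerM22.Outer
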