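/-
The centraliser of the outer involution of Fi22 (helper23).

Main results (namespace `Cfsg.Agent.FischerM22.Outer`):
* `card_Cs`, `card_stab0`: the orders of the centraliser and of its stabiliser of the base point;
* `cs_equiv`: the centraliser is the automorphism group of Omega plus (8, 2);
* `stab0_equiv`: the stabiliser is two times PSp6(2).
-/
import Cfsg.Agent.Lib.FischerM22.Outer.Fixed
import Cfsg.Agent.Lib.Multiplier.Sp6Mat
import Cfsg.Agent.Lib.Triality.Out
import Cfsg.Agent.Lib.AutPOmega.Field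
import Cfsg.Agent.S0287

set_option autoImplicit false
set_option maxRecDepth 100000

namespace Cfsg.Agent.FischerM22.Outer

open Cfsg.Agent.CosetEnum Cfsg.Agent.CosetEnum.Data
open Cfsg.Agent.Fi22U62 (rho pt0 z0 rho_injective Hs mem_Hs_iff pperm phi)
open Cfsg.Agent.Fi22Aut (model model_d0)
open Cfsg.Agent.Orth (quadPlus Good)

attribute [local irreducible] frow fnum posTab piN

/-! ### The first block -/

/-- The embedding of the indices of the first block. -/
def b120 (a : Fin 120) : Fin 360 := ⟨a, by omega⟩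

theorem b120_injective : Function.Injective b120 := fun _ _ h => Fin.ext (congrArg Fin.val h :)

theorem vec_facts (a q : Fin 120) : fact a q < 120 ∧
    vec8.getD (fact a q) 0 = if polB qb8 (vec8.getD a 0) (vec8.getD q 0) then vec8.getD q 0 ^^^ vec8.getD a 0
      else vec8.getD q 0 := by
  have h := List.all_eq_true.mp vec_check a (List.mem_range.mpr a.2)
  simp only [force_eq, List.all_eq_true, Bool.and_eq_true, Nat.blt_eq, List.mem_range] at h
  obtain ⟨h1, h2⟩ := h q q.2
  refine ⟨h1, (Nat.eq_of_beq_eq_true h2).trans ?_⟩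
  cases polB qb8 (vec8.getD a 0) (vec8.getD q 0) <;> rfl

/-- The members of the first block. -/
noncomputable def mem120 (a : Fin 120) : Cs := mem360 (b120 a)

theorem lab3_mem120 (a : Fin 120) : lab3 (mem120 a) 0 = 0 := by
  have h := blk_act360 (mem120 a) (b120 a)
  rw [blk_zero_of_lt (show ((b120 a : Fin 360) : ℕ) < 120 from a.2)] at h
  rw [← h, mem120, act_mem360]
  exact blk_zero_of_lt (vec_facts a a).1

/-- The group of the first block. -/
noncomputable def Hblk : Subgroup Cs := Subgroup.closure (Set.range mem120)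

theorem lab3_Hblk {g : Cs} (h : g ∈ Hblk) : lab3 g 0 = 0 := by
  induction h using Subgroup.closure_induction with
  | mem x hx => obtain ⟨a, rfl⟩ := hx; exact lab3_mem120 a
  | one => rw [map_one]; rfl
  | mul x y _ _ hx hy => rw [map_mul, Equiv.Perm.mul_apply, hy, hx]
  | inv x _ hx => rw [map_inv, Equiv.Perm.inv_def, Equiv.symm_apply_eq, hx]

theorem act120_lt (g : Hblk) (a : Fin 120) : (act360 (g : Cs) (b120 a) : ℕ) < 120 := by
  apply lt_of_blk_zero
  rw [blk_act360, blk_zero_of_lt (show ((b120 a : Fin 360) : ℕ) < 120 from a.2), lab3_Hblk g.2]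

/-- The action on the first block. -/
noncomputable def act120 : Hblk →* Equiv.Perm (Fin 120) where
  toFun g :=
    { toFun := fun a => ⟨_, act120_lt g a⟩
      invFun := fun a => ⟨_, act120_lt g⁻¹ a⟩
      left_inv := fun a => Fin.ext (by
        show ((act360 ((g⁻¹ : Hblk) : Cs)) (act360 (g : Cs) (b120 a)) : ℕ) = a
        rw [Subgroup.coe_inv, map_inv, Equiv.Perm.inv_def, Equiv.symm_apply_apply]; rfl)
      right_inv := fun a => Fin.ext (by
        show ((act360 (g : Cs)) (act360 ((g⁻¹ : Hblk) : Cs) (b120 a)) : ℕ) = a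
        rw [Subgroup.coe_inv, map_inv, Equiv.Perm.inv_def, Equiv.apply_symm_apply]; rfl) }
  map_one' := Equiv.ext fun a => Fin.ext (by
    show ((act360 ((1 : Hblk) : Cs)) (b120 a) : ℕ) = a
    rw [Subgroup.coe_one, map_one]; rfl)
  map_mul' g h := Equiv.ext fun a => Fin.ext (by
    show ((act360 ((g * h : Hblk) : Cs)) (b120 a) : ℕ) = act360 (g : Cs) (act360 (h : Cs) (b120 a))
    rw [Subgroup.coe_mul, map_mul, Equiv.Perm.mul_apply])

theorem act120_val (g : Hblk) (a : Fin 120) : b120 (act120 g a) = act360 (g : Cs) (b120 a) := Fin.ext rfl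

theorem act120_injective : Function.Injective act120 := by
  rw [injective_iff_map_eq_one]
  intro g hg
  refine Subtype.ext (Subtype.ext (eq_one_of_fix fun k hk => ?_))
  have h := act120_val g ⟨k, hk⟩
  rw [hg] at h
  rw [← fpt_act]
  exact congrArg fpt (h.symm.trans (Fin.ext rfl))

/-- The permutations of the members of the first block. -/
noncomputable def perm120 (a : Fin 120) : Equiv.Perm (Fin 120) :=
  act120 ⟨mem120 a, Subgroup.subset_closure ⟨a, rfl⟩⟩

theorem perm120_val (a q : Fin 120) : ((perm120 a q : Fin 120) : ℕ) = fact a q := by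
  show ((act360 (mem120 a) (b120 q) : Fin 360) : ℕ) = _
  rw [mem120, act_mem360]
  rfl

theorem range_act120 : act120.range = Subgroup.closure (Set.range perm120) := by
  refine le_antisymm ?_ ((Subgroup.closure_le _).mpr fun _ ⟨a, ha⟩ => ⟨_, ha⟩)
  rintro _ ⟨⟨g, hg⟩, rfl⟩
  induction hg using Subgroup.closure_induction with
  | mem x hx => obtain ⟨a, rfl⟩ := hx; exact Subgroup.subset_closure ⟨a, rfl⟩
  | one => exact (map_one act120).symm ▸ one_mem _
  | mul x y hx hy ihx ihy =>
    have := map_mul act120 ⟨x, hx⟩ ⟨y, hy⟩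
    exact this.symm ▸ mul_mem ihx ihy
  | inv x hx ihx =>
    have := map_inv act120 ⟨x, hx⟩
    exact this.symm ▸ inv_mem ihx

/-- Coordinates in dimension eight. -/
def e8 : Fin 4 ⊕ Fin 4 ≃ Fin 8 := finSumFinEquiv

theorem quadPlus_dec (c : ℕ) : quadPlus 4 (ZMod 2) (decV e8 c) = bz (qb8 c) := by
  rw [Orth.coe_quadPlus]
  simp only [Cfsg.quadFormPlus, Fin.sum_univ_four, decV, qb8, show e8 (.inl 0) = 0 from rfl,
    show e8 (.inl 1) = 1 from rfl, show e8 (.inl 2) = 2 from rfl, show e8 (.inl 3) = 3 from rfl,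
    show e8 (.inr 0) = 4 from rfl, show e8 (.inr 1) = 5 from rfl, show e8 (.inr 2) = 6 from rfl,
    show e8 (.inr 3) = 7 from rfl]
  have key : ∀ a b c d e f g h : Bool, bz a * bz e + bz b * bz f + bz c * bz g + bz d * bz h =
      bz (xor (xor (a && e) (b && f)) (xor (c && g) (d && h))) := by decide
  exact key (c.testBit 0) (c.testBit 1) (c.testBit 2) (c.testBit 3) (c.testBit 4) (c.testBit 5) (c.testBit 6)
    (c.testBit 7)

theorem good8 : Good (quadPlus 4 (ZMod 2)) := Good.of_card (Orth.quadPlus_nondeg 4) (.inr (by simp))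

theorem code8 : Code (quadPlus 4 (ZMod 2)) e8 qb8 120 (fun a => vec8.getD (a : ℕ) 0) perm120 := by
  have hc := code_check
  simp only [force_eq, Bool.and_eq_true, List.all_eq_true, List.any_eq_true, Bool.or_eq_true, Nat.blt_eq,
    List.mem_range, List.contains_iff_mem, Bool.not_eq_true'] at hc
  obtain ⟨hA, hS, hG⟩ := hc
  have hlen : vec8.length = 120 := by decide +kernel
  have hmem : ∀ u ∈ vec8, ∃ a : Fin 120, vec8.getD (a : ℕ) 0 = u := fun u hu => by
    obtain ⟨i, hi, rfl⟩ := List.mem_iff_getElem.mp hu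
    exact ⟨⟨i, hlen ▸ hi⟩, List.getD_eq_getElem _ _ hi⟩
  have hne : ∀ a b : Fin 120, (b : ℕ) < a → vec8.getD (b : ℕ) 0 ≠ vec8.getD (a : ℕ) 0 := fun a b hb e => by
    have := (hA a a.2).2 b hb
    rw [e, Nat.beq_refl] at this
    exact absurd this (by decide)
  refine ⟨quadPlus_dec, good8, fun a => (hA a a.2).1.1, fun a b e => ?_, fun a => (hA a a.2).1.2,
    fun c hc hq => ?_, fun k hk => ?_, fun a q => ?_⟩
  · by_contra hab
    rcases lt_or_gt_of_ne (fun h => hab (Fin.ext h) : (a : ℕ) ≠ b) with h | h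
    · exact hne b a h e
    · exact hne a b h e.symm
  · rcases hS c hc with h | h
    · rw [hq] at h; exact absurd h (by decide)
    · exact hmem c h
  · obtain ⟨u, hu, hv⟩ := hG k hk
    obtain ⟨a, rfl⟩ := hmem u hu
    obtain ⟨b, hb⟩ := hmem _ hv
    refine ⟨a, b, ?_⟩
    rw [hb]
    show vec8.getD (a : ℕ) 0 ^^^ (vec8.getD (a : ℕ) 0 ^^^ 2 ^ k) = 2 ^ k
    rw [← Nat.xor_assoc, Nat.xor_self, Nat.zero_xor]
  · rw [perm120_val]
    exact (vec_facts a q).2

/-- The group of the first block is the orthogonal group. -/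
theorem nonempty_Hblk_equiv : Nonempty (Hblk ≃* Orth.IsoGrp (quadPlus 4 (ZMod 2))) := by
  obtain ⟨ρ, hρ, hr⟩ := code8.exists_rep
  exact ⟨((MonoidHom.ofInjective act120_injective).trans
    (MulEquiv.subgroupCongr (range_act120.trans hr.symm))).trans (MonoidHom.ofInjective hρ).symm⟩

theorem card_iso8 : Nat.card (Orth.IsoGrp (quadPlus 4 (ZMod 2))) = 348364800 := by
  have h := S0287.result (F := ZMod 2) (q := 2) (ZMod.card 2) 4 (by norm_num)
  rw [show Nat.card (Orth.IsoGrp (quadPlus 4 (ZMod 2))) = _ from h]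
  decide +kernel

theorem card_Hblk : Nat.card Hblk = 348364800 := by
  obtain ⟨e⟩ := nonempty_Hblk_equiv
  rw [Nat.card_congr e.toEquiv, card_iso8]

/-! ### Blocks -/

theorem lab3_swap : lab3 (mem360 0) = Equiv.swap 1 2 ∧ lab3 (mem360 120) = Equiv.swap 0 2 := by
  have h := swap_check
  simp only [swapOK, force_eq, Bool.and_eq_true, List.all_eq_true, List.mem_range] at h
  have key : ∀ (r : Fin 360) (c : Fin 3), ((lab3 (mem360 r) c : Fin 3) : ℕ) = fact r (120 * (c : ℕ)) / 120 := by
    intro r c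
    show ((blk (act360 (mem360 r) (root c)) : Fin 3) : ℕ) = _
    rw [act_mem360]
    rfl
  constructor <;> refine Equiv.ext fun c => Fin.ext ?_ <;> rw [key]
  · refine (Nat.eq_of_beq_eq_true (h.1 (120 * (c : ℕ)) (by omega))).trans ?_
    fin_cases c <;> decide
  · refine (Nat.eq_of_beq_eq_true (h.2 (120 * (c : ℕ)) (by omega))).trans ?_
    fin_cases c <;> decide

theorem lab3_surjective : Function.Surjective lab3 := by
  have key : ∀ p : Equiv.Perm (Fin 3), p = 1 ∨ p = Equiv.swap 1 2 ∨ p = Equiv.swap 0 2 ∨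
      p = Equiv.swap 1 2 * Equiv.swap 0 2 ∨ p = Equiv.swap 0 2 * Equiv.swap 1 2 ∨
      p = Equiv.swap 1 2 * Equiv.swap 0 2 * Equiv.swap 1 2 := by decide
  intro p
  obtain ⟨h0, h1⟩ := lab3_swap
  rcases key p with e | e | e | e | e | e <;> subst e
  · exact ⟨1, map_one _⟩
  · exact ⟨_, h0⟩
  · exact ⟨_, h1⟩
  · exact ⟨mem360 0 * mem360 120, by rw [map_mul, h0, h1]⟩
  · exact ⟨mem360 120 * mem360 0, by rw [map_mul, h0, h1]⟩
  · exact ⟨mem360 0 * mem360 120 * mem360 0, by rw [map_mul, map_mul, h0, h1]⟩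

/-- The kernel of the action on the blocks. -/
noncomputable abbrev Jk : Subgroup Cs := lab3.ker

theorem card_Cs_eq : Nat.card Cs = 6 * Nat.card Jk := by
  rw [Subgroup.card_eq_card_quotient_mul_card_subgroup Jk,
    Nat.card_congr (QuotientGroup.quotientKerEquivOfSurjective lab3 lab3_surjective).toEquiv, Nat.card_perm,
    Nat.card_fin]
  rfl

theorem mem0_mem_Hblk : mem360 0 ∈ Hblk := Subgroup.subset_closure ⟨0, rfl⟩

theorem index_Jk : (Jk.subgroupOf Hblk).index = 2 := by
  have hk : Jk.subgroupOf Hblk = (lab3.comp Hblk.subtype).ker := by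
    ext g; rfl
  rw [hk, Subgroup.index_ker]
  have hr : (lab3.comp Hblk.subtype).range = Subgroup.zpowers (Equiv.swap (1 : Fin 3) 2) := by
    refine le_antisymm ?_ ?_
    · rintro _ ⟨g, rfl⟩
      have key : ∀ p : Equiv.Perm (Fin 3), p 0 = 0 → p = 1 ∨ p = Equiv.swap 1 2 := by decide
      rcases key _ (lab3_Hblk g.2) with e | e
      · exact Subgroup.mem_zpowers_iff.mpr ⟨0, by simp [MonoidHom.comp_apply, e]⟩
      · exact Subgroup.mem_zpowers_iff.mpr ⟨1, by simp [MonoidHom.comp_apply, e]⟩
    · rw [Subgroup.zpowers_le]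
      exact ⟨⟨_, mem0_mem_Hblk⟩, lab3_swap.1⟩
  rw [hr, Nat.card_zpowers]
  have : Fact (Nat.Prime 2) := ⟨Nat.prime_two⟩
  exact orderOf_eq_prime (by decide) (by decide)

theorem card_Jk_ge : 174182400 ≤ Nat.card Jk := by
  have h := (Jk.subgroupOf Hblk).index_mul_card
  rw [index_Jk, card_Hblk] at h
  have hle : Nat.card (Jk.subgroupOf Hblk) ≤ Nat.card Jk :=
    Nat.card_le_card_of_injective (fun x => (⟨((x : Hblk) : Cs), x.2⟩ : Jk))
      fun x y e => Subtype.ext (Subtype.ext (congrArg (fun z : Jk => (z : Cs)) e :))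
  omega

/-! ### The stabiliser of the base point -/

/-- The stabiliser of the base point. -/
noncomputable def stab0 : Subgroup Cs := (MulAction.stabilizer (Equiv.Perm (Fin 360)) (0 : Fin 360)).comap act360

theorem mem_stab0 {g : Cs} : g ∈ stab0 ↔ act360 g 0 = 0 := Iff.rfl

theorem stab0_mem_Hs (g : stab0) : ((g : Cs) : G22) ∈ Hs := by
  rw [mem_Hs_iff, ← fpt_zero, ← fpt_act, mem_stab0.mp g.2]

theorem mem_stab0_of_Hs {g : Cs} (h : (g : G22) ∈ Hs) : g ∈ stab0 := by
  rw [mem_stab0]
  apply fpt_injective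
  rw [fpt_act, fpt_zero]
  exact (mem_Hs_iff _).mp h

/-- The stabiliser inside the centraliser of the base point. -/
noncomputable def toHs : stab0 →* Hs where
  toFun g := ⟨_, stab0_mem_Hs g⟩
  map_one' := rfl
  map_mul' _ _ := rfl

/-- The symplectic group on the points. -/
noncomputable def spPerm : Matrix.symplecticGroup (Fin 3) (ZMod 2) →* Equiv.Perm (Fin 693) := pperm.comp eSp

theorem spPerm_injective : Function.Injective spPerm := by
  rw [injective_iff_map_eq_one]
  intro X hX
  have h : eSp X ∈ Subgroup.center SU6 := by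
    rw [← Fi22U62.ker_pperm]; exact hX
  obtain ⟨c, hc, e⟩ := center_scal h
  have k1 : Fs * mat (eSp X) * Es = (X : Matrix (Fin 3 ⊕ Fin 3) (Fin 3 ⊕ Fin 3) (ZMod 2)).map f2 := by
    rw [mat_eSp]
    calc _ = (Fs * Es) * (X : Matrix (Fin 3 ⊕ Fin 3) (Fin 3 ⊕ Fin 3) (ZMod 2)).map f2 * (Fs * Es) := by
          simp only [Matrix.mul_assoc]
      _ = _ := by rw [Fs_Es, Matrix.one_mul, Matrix.mul_one]
  have k2 : Fs * mat (eSp X) * Es = c • (1 : Matrix (Fin 3 ⊕ Fin 3) (Fin 3 ⊕ Fin 3) Unitary.GF4) := by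
    rw [e]
    show Fs * Matrix.scalar (Fin 6) c * Es = _
    rw [Matrix.scalar_apply, ← Matrix.smul_one_eq_diagonal, Matrix.mul_smul, Matrix.smul_mul, Matrix.mul_one, Fs_Es]
  have hfix : cj c = c := by
    have h0 := congrFun (congrFun (k1.symm.trans k2) (.inl 0)) (.inl 0)
    rw [Matrix.map_apply, Matrix.smul_apply, Matrix.one_apply_eq, smul_eq_mul, mul_one] at h0
    rw [← h0]
    exact cj_f2 _
  have hc1 : c = 1 := (fixed_cases c hfix).resolve_left hc
  apply eSp_injective
  rw [map_one, e]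
  exact Unitary.suAct_ext fun v => by rw [suAct_scal, hc1, one_smul, Unitary.suAct_one]

theorem phi_stab0_mem (g : stab0) : phi (toHs g) ∈ spPerm.range := by
  obtain ⟨A, hA⟩ : phi (toHs g) ∈ pperm.range := Fi22U62.range_eq ▸ MonoidHom.mem_range.mpr ⟨_, rfl⟩
  have e : (⟨s (toHs g : G22), s_mem_Hs (toHs g).2⟩ : Hs) = toHs g := Subtype.ext (g : Cs).2
  have h := phi_s (toHs g)
  rw [e, ← hA, ← pperm_sB] at h
  have hc : sB A * A⁻¹ ∈ Subgroup.center SU6 := by
    rw [← Fi22U62.ker_pperm, MonoidHom.mem_ker, map_mul, map_inv, ← h, mul_inv_cancel]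
  obtain ⟨z, hz, hfix⟩ := exists_fixed_scal hc
  obtain ⟨X, hX⟩ := exists_eSp hfix
  exact ⟨X, by rw [spPerm, MonoidHom.comp_apply, hX, map_mul, phi_eq_one_of_center hz, mul_one, hA]⟩

/-- The symplectic image of the stabiliser. -/
noncomputable def psi : stab0 →* Matrix.symplecticGroup (Fin 3) (ZMod 2) :=
  (MonoidHom.ofInjective spPerm_injective).symm.toMonoidHom.comp ((phi.comp toHs).codRestrict _ phi_stab0_mem)

theorem spPerm_psi (g : stab0) : spPerm (psi g) = phi (toHs g) := by
  show spPerm ((MonoidHom.ofInjective spPerm_injective).symm _) = _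
  rw [← MonoidHom.ofInjective_apply spPerm_injective, MulEquiv.apply_symm_apply]
  rfl

theorem psi_ker {g : stab0} (h : psi g = 1) : ((g : Cs) : G22) = 1 ∨ ((g : Cs) : G22) = z0 :=
  ker_phi_cases (g := toHs g) (by rw [← spPerm_psi, h, map_one])

theorem card_psi_ker : Nat.card psi.ker ≤ 2 := by
  let f : psi.ker → Fi22U62.phi.ker := fun g => ⟨toHs g, by
    rw [MonoidHom.mem_ker, ← spPerm_psi, g.2, map_one]⟩
  have hf : Function.Injective f := fun a b e => by
    have h := congrArg (fun x : Fi22U62.phi.ker => ((x : Hs) : G22)) e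
    exact Subtype.ext (Subtype.ext (Subtype.ext h))
  exact (Nat.card_le_card_of_injective f hf).trans Fi22U62.card_ker.le

theorem card_stab0_le : Nat.card stab0 ≤ 2903040 := by
  have h1 := psi.ker.index_mul_card
  rw [Subgroup.index_ker] at h1
  have h2 : Nat.card psi.range ≤ 1451520 :=
    (Nat.card_le_card_of_injective _ psi.range.subtype_injective).trans Multiplier.Sp6.natCard_sp6.le
  rw [← h1]
  exact Nat.mul_le_mul h2 card_psi_ker

theorem card_Cs_le : Nat.card Cs ≤ 360 * Nat.card stab0 := by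
  let f : Cs → Fin 360 := fun g => act360 g 0
  have hf : ∀ g h : Cs, f g = f h ↔ g⁻¹ * h ∈ stab0 := fun g h => by
    rw [mem_stab0, map_mul, map_inv, Equiv.Perm.mul_apply, Equiv.Perm.inv_def, Equiv.symm_apply_eq]
    exact ⟨fun e => e.symm, fun e => e.symm⟩
  have h1 : stab0.index ≤ 360 := by
    rw [Subgroup.index]
    let F : Cs ⧸ stab0 → Fin 360 := Quotient.lift f fun g h e => (hf g h).mpr (QuotientGroup.leftRel_apply.mp e)
    have hF : Function.Injective F := by
      intro a b
      induction a using QuotientGroup.induction_on with | H g => ?_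
      induction b using QuotientGroup.induction_on with | H h => ?_
      exact fun e => QuotientGroup.eq.mpr ((hf g h).mp e)
    exact (Nat.card_le_card_of_injective F hF).trans (by rw [Nat.card_fin])
  rw [← stab0.index_mul_card]
  exact Nat.mul_le_mul_right _ h1

theorem card_Cs : Nat.card Cs = 1045094400 := by
  have := card_Cs_le
  have := card_stab0_le
  have := card_Cs_eq
  have := card_Jk_ge
  omega

theorem card_stab0 : Nat.card stab0 = 2903040 := by
  have := card_Cs_le
  have := card_stab0_le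
  have := card_Cs
  omega

theorem card_Jk : Nat.card Jk = 174182400 := by
  have := card_Cs_eq
  have := card_Cs
  omega

theorem Jk_le : Jk ≤ Hblk := by
  have h1 := (Jk.subgroupOf Hblk).index_mul_card
  rw [index_Jk, card_Hblk] at h1
  have h2 : Nat.card (Jk ⊓ Hblk : Subgroup Cs) = Nat.card Jk := by
    rw [card_Jk, ← Nat.card_congr (Subgroup.subgroupOfEquivOfLe (inf_le_right : Jk ⊓ Hblk ≤ Hblk)).toEquiv,
      Subgroup.inf_subgroupOf_right]
    omega
  exact Subgroup.eq_of_le_of_card_ge inf_le_left h2.ge ▸ inf_le_right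

theorem Jk_map : (commutator Hblk).map Hblk.subtype = Jk := by
  obtain ⟨e⟩ := nonempty_Hblk_equiv
  have hidx : (Cfsg.Omega (ZMod 2) ⇑(quadPlus 4 (ZMod 2))).index = 2 :=
    Orth.omega_index_two good8 (by simp) (by decide)
  have h1 := (Cfsg.Omega (ZMod 2) ⇑(quadPlus 4 (ZMod 2))).index_mul_card
  rw [hidx, show Nat.card (Cfsg.isometryGroup (ZMod 2) ⇑(quadPlus 4 (ZMod 2))) = 348364800 from card_iso8] at h1
  have h2 : Nat.card ((commutator Hblk).map Hblk.subtype) = Nat.card (Cfsg.Omega (ZMod 2) ⇑(quadPlus 4 (ZMod 2))) := by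
    rw [Subgroup.card_map_of_injective Hblk.subtype_injective]
    have h3 : (commutator Hblk).map e.toMonoidHom = commutator _ := by
      rw [commutator_def, Subgroup.map_commutator, Subgroup.map_top_of_surjective _ e.surjective, ← commutator_def]
    rw [Nat.card_congr (Subgroup.equivMapOfInjective (commutator Hblk) e.toMonoidHom e.injective).toEquiv]
    exact (congrArg (fun K : Subgroup _ => Nat.card K) h3)
  refine Subgroup.eq_of_le_of_card_ge ?_ (by rw [card_Jk, h2]; omega)
  rintro _ ⟨g, hg, rfl⟩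
  show lab3 (g : Cs) = 1
  have hle : commutator Hblk ≤ (lab3.comp Hblk.subtype).ker := by
    rw [commutator_def, Subgroup.commutator_le]
    intro x _ y _
    rw [MonoidHom.mem_ker, map_commutatorElement, commutatorElement_eq_one_iff_mul_comm]
    have key : ∀ p q : Equiv.Perm (Fin 3), p 0 = 0 → q 0 = 0 → p * q = q * p := by decide
    exact key _ _ (lab3_Hblk x.2) (lab3_Hblk y.2)
  exact hle hg

theorem nonempty_Jk_equiv : Nonempty (Jk ≃* Cfsg.Omega (ZMod 2) (Cfsg.quadFormPlus 4 (ZMod 2))) := by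
  obtain ⟨e⟩ := nonempty_Hblk_equiv
  have h3 : (commutator Hblk).map e.toMonoidHom = commutator _ := by
    rw [commutator_def, Subgroup.map_commutator, Subgroup.map_top_of_surjective _ e.surjective, ← commutator_def]
  exact ⟨((MulEquiv.subgroupCongr Jk_map.symm).trans
    ((Subgroup.equivMapOfInjective (commutator Hblk) _ Hblk.subtype_injective).symm)).trans
    ((Subgroup.equivMapOfInjective (commutator Hblk) e.toMonoidHom e.injective).trans (MulEquiv.subgroupCongr h3))⟩

theorem Jk_block (k : Fin 360) (hk : (k : ℕ) < 120) : ∃ x ∈ Jk, act360 x 0 = k := by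
  have hreach : ∀ (m : ℕ) (known : List ℕ),
      (∀ n ∈ known, ∀ hn : n < 360, ∃ x ∈ Hblk, act360 x 0 = ⟨n, hn⟩) → reachOK known m = true →
      ∀ q : Fin 120, ∃ x ∈ Hblk, act360 x 0 = b120 q := by
    intro m
    induction m with
    | zero =>
      intro known hk h q
      simp only [reachOK, List.all_eq_true, List.contains_iff_mem, List.mem_range] at h
      exact hk q (h q q.2) _
    | succ m ih =>
      intro known hk h
      simp only [reachOK, force_eq] at h
      refine ih _ ?_ h
      intro n hn hn'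
      have hM : ∀ j, Nat.beq (Nat.land (Nat.shiftRight (known.foldr (fun x acc => Nat.lor acc (Nat.shiftLeft 1 x)) 0) j) 1) 1 = true →
          j ∈ known := by
        intro j hj
        have hb : (known.foldr (fun x acc => Nat.lor acc (Nat.shiftLeft 1 x)) 0).testBit j = true :=
          (FischerAut.mbit_iff _ j).mp hj
        clear hj h hk hn
        induction known with
        | nil => simp at hb
        | cons a l ih' =>
          simp only [List.foldr_cons] at hb
          rw [show Nat.lor (l.foldr (fun x acc => Nat.lor acc (Nat.shiftLeft 1 x)) 0) (Nat.shiftLeft 1 a) =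
            (l.foldr (fun x acc => Nat.lor acc (Nat.shiftLeft 1 x)) 0) ||| (1 <<< a) from rfl,
            Nat.testBit_lor, Bool.or_eq_true] at hb
          rcases hb with hb | hb
          · exact List.mem_cons_of_mem _ (ih' hb)
          · rw [Nat.one_shiftLeft, Nat.testBit_two_pow, decide_eq_true_eq] at hb
            exact hb ▸ List.mem_cons_self
      obtain ⟨hn1, hn2⟩ := List.mem_filter.mp hn
      have hn120 := List.mem_range.mp hn1
      simp only [Bool.or_eq_true, List.any_eq_true, Bool.and_eq_true, Nat.blt_eq, List.mem_range] at hn2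
      rcases hn2 with e | ⟨a, ha, e, -⟩
      · exact hk n (hM n e) hn'
      · obtain ⟨x, hx, hx0⟩ := hk _ (hM _ e) (rho_row ⟨a, by omega⟩ ⟨n, hn'⟩).1
        refine ⟨mem120 ⟨a, ha⟩ * x, mul_mem (Subgroup.subset_closure ⟨_, rfl⟩) hx, ?_⟩
        rw [map_mul, Equiv.Perm.mul_apply, hx0]
        apply fpt_injective
        have h2 := d_sq (fpt (b120 ⟨a, ha⟩))
        rw [fpt_act]
        show rho (model.d (fpt (b120 ⟨a, ha⟩))) (fpt (fmap (b120 ⟨a, ha⟩) ⟨n, hn'⟩)) = _
        rw [← rho_fmap, ← Equiv.Perm.mul_apply, ← map_mul, h2, map_one, Equiv.Perm.one_apply]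
  obtain ⟨x, hx, hx0⟩ := hreach 2 [0] (fun n hn hn' => by
    obtain rfl := List.mem_singleton.mp hn
    exact ⟨1, one_mem _, by rw [map_one]; rfl⟩) reach_check ⟨k, hk⟩
  have h0 : act360 (mem360 0) 0 = 0 := by
    apply fpt_injective
    rw [fpt_act]
    exact model.self_fix _
  have hkey : ∀ p : Equiv.Perm (Fin 3), p 0 = 0 → p = 1 ∨ p * Equiv.swap 1 2 = 1 := by decide
  rcases hkey _ (lab3_Hblk hx) with e | e
  · exact ⟨x, e, hx0⟩
  · refine ⟨x * mem360 0, ?_, ?_⟩
    · show lab3 _ = 1
      rw [map_mul, lab3_swap.1, e]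
    · rw [map_mul, Equiv.Perm.mul_apply, h0, hx0]
      rfl

theorem conjNormal_injective : Function.Injective (MulAut.conjNormal : Cs →* MulAut Jk) := by
  rw [injective_iff_map_eq_one]
  intro g hg
  have hcomm : ∀ x ∈ Jk, g * x = x * g := fun x hx => by
    have := congrArg (fun y : Jk => (y : Cs)) (DFunLike.congr_fun hg ⟨x, hx⟩)
    simp only [MulAut.conjNormal_apply, MulAut.one_apply] at this
    exact mul_inv_eq_iff_eq_mul.mp this
  have hg0 : act360 g 0 = 0 := by
    by_contra hne
    have hw := witness_check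
    simp only [force_eq, List.all_eq_true, Bool.or_eq_true, List.any_eq_true, Bool.and_eq_true, Bool.not_eq_true',
      List.mem_range] at hw
    rcases hw (act360 g 0) (act360 g 0).2 with e | ⟨q, hq, e1, e2⟩
    · exact hne (Fin.ext (Nat.eq_of_beq_eq_true e))
    · set x : Cs := mem120 ⟨q, hq⟩ * mem360 0
      have hq0 : act360 (mem120 ⟨q, hq⟩) 0 = 0 := by
        rw [mem120, act_mem360]; exact Fin.ext (Nat.eq_of_beq_eq_true e1)
      have hxJ : x ∈ Jk := by
        show lab3 x = 1
        have key : ∀ p : Equiv.Perm (Fin 3), p 0 = 0 → p = 1 ∨ p = Equiv.swap 1 2 := by decide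
        have hsame : lab3 (mem120 ⟨q, hq⟩) = Equiv.swap 1 2 := by
          obtain ⟨y, hy, hy0⟩ := exists_Hblk_to q hq
          have e : mem120 ⟨q, hq⟩ = y * mem360 0 * y⁻¹ := Subtype.ext (by
            show model.d (fpt (b120 ⟨q, hq⟩)) = _
            rw [← hy0, fpt_act, ← conj_d]; rfl)
          rcases key _ (lab3_Hblk hy) with e' | e' <;> rw [e, map_mul, map_mul, map_inv, lab3_swap.1, e']
          · simp
          · simp
        show lab3 (mem120 ⟨q, hq⟩ * mem360 0) = 1
        rw [map_mul, hsame, lab3_swap.1]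
        exact Equiv.swap_mul_self _ _
      have h00 : act360 (mem360 0) 0 = 0 := fpt_injective (by rw [fpt_act]; exact model.self_fix _)
      have hx0 : act360 x 0 = 0 := by
        rw [map_mul, Equiv.Perm.mul_apply, h00, hq0]
      have hmove : act360 x (act360 g 0) = act360 g 0 := by
        have := congrArg (fun y => act360 y 0) (hcomm x hxJ)
        simp only [map_mul, Equiv.Perm.mul_apply] at this
        rw [show act360 x 0 = 0 from hx0] at this
        exact this.symm
      have hv := congrArg Fin.val hmove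
      rw [map_mul, Equiv.Perm.mul_apply, mem120, act_mem360, act_mem360] at hv
      change fact q (fact 0 (act360 g 0)) = _ at hv
      unfold fact at hv
      rw [hv, Nat.beq_refl] at e2
      exact absurd e2 (by decide)
  refine Subtype.ext (eq_one_of_fix fun k hk => ?_)
  obtain ⟨x, hx, hx0⟩ := Jk_block k hk
  rw [← fpt_act]
  congr 1
  rw [← hx0, ← Equiv.Perm.mul_apply, ← map_mul, hcomm x hx, map_mul, Equiv.Perm.mul_apply, hg0]
where
  exists_Hblk_to (q : ℕ) (hq : q < 120) : ∃ y, y ∈ Hblk ∧ act360 y 0 = b120 ⟨q, hq⟩ := by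
    obtain ⟨x, hx, hx0⟩ := Jk_block (b120 ⟨q, hq⟩) hq
    exact ⟨x, Jk_le hx, hx0⟩

theorem card_mulAut_omega :
    Nat.card (MulAut (Cfsg.Omega (ZMod 2) (Cfsg.quadFormPlus 4 (ZMod 2)))) = 1045094400 := by
  have hbase : AutPOmega.Base (quadPlus 4 (ZMod 2)) := ⟨Orth.quadPlus_nondeg 4, by simp⟩
  have hc := AutPOmega.card_mulAut_base hbase
  have : Fact (Nat.Prime 2) := ⟨Nat.prime_two⟩
  have ho := Triality.card_out_eight (F := ZMod 2) (p := 2) (f := 1) le_rfl (by simp)
  have hz : Subgroup.center ↥(Cfsg.Omega (ZMod 2) ⇑(quadPlus 4 (ZMod 2))) = ⊥ :=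
    Orth.center_omega_eq_bot (Orth.quadPlus_nondeg 4) (by simp)
      (Orth.omega_eq_eichGen good8 (by simp) (.inr (by simp))).ge (Or.inr (show (2 : ZMod 2) = 0 from rfl))
  let e : Cfsg.POmega (ZMod 2) ⇑(quadPlus 4 (ZMod 2)) ≃* Cfsg.Omega (ZMod 2) ⇑(quadPlus 4 (ZMod 2)) :=
    (QuotientGroup.quotientMulEquivOfEq hz).trans QuotientGroup.quotientBot
  have h1 := (Cfsg.Omega (ZMod 2) ⇑(quadPlus 4 (ZMod 2))).index_mul_card
  rw [Orth.omega_index_two good8 (by simp) (by decide),
    show Nat.card (Cfsg.isometryGroup (ZMod 2) ⇑(quadPlus 4 (ZMod 2))) = 348364800 from card_iso8] at h1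
  rw [show Nat.card (Cfsg.Out (Cfsg.POmega (ZMod 2) ⇑(quadPlus 4 (ZMod 2)))) = 6 from ho.trans (by simp),
    Nat.card_congr e.toEquiv, Nat.card_congr (MulAut.congr e).toEquiv] at hc
  show Nat.card (MulAut (Cfsg.Omega (ZMod 2) ⇑(quadPlus 4 (ZMod 2)))) = _
  omega

/-- The centraliser is the automorphism group of Omega plus (8, 2). -/
theorem cs_equiv : Nonempty (Cs ≃* MulAut (Cfsg.Omega (ZMod 2) (Cfsg.quadFormPlus 4 (ZMod 2)))) := by
  obtain ⟨e⟩ := nonempty_Jk_equiv
  refine ⟨(MulEquiv.ofBijective _ ((Nat.bijective_iff_injective_and_card _).mpr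
    ⟨(MulAut.congr e).injective.comp conjNormal_injective, ?_⟩ :
      Function.Bijective ((MulAut.congr e).toMonoidHom.comp MulAut.conjNormal)))⟩
  rw [card_Cs, card_mulAut_omega]

theorem center_sp : Subgroup.center (Matrix.symplecticGroup (Fin 3) (ZMod 2)) = ⊥ := by
  rw [eq_bot_iff]
  intro g hg
  rw [Subgroup.mem_bot]
  refine Subtype.ext ?_
  rcases GLOrder.center_Sp.mp hg with e | e
  · simpa using e
  · rw [e]
    ext i j
    show -((1 : Matrix _ _ (ZMod 2)) i j) = (1 : Matrix _ _ (ZMod 2)) i j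
    exact ZMod.neg_eq_self_mod_two _

/-- The stabiliser is two times PSp6(2). -/
theorem stab0_equiv : Nonempty (stab0 ≃* Multiplicative (ZMod 2) × Cfsg.PSp 3 (ZMod 2)) := by
  let sgn : Equiv.Perm (Fin 3) →* Multiplicative (ZMod 2) :=
    { toFun := fun p => if Equiv.Perm.sign p = 1 then 1 else Multiplicative.ofAdd 1
      map_one' := by simp
      map_mul' := by decide }
  let Ψ : stab0 →* Multiplicative (ZMod 2) × Cfsg.PSp 3 (ZMod 2) :=
    ((sgn.comp lab3).comp stab0.subtype).prod ((QuotientGroup.mk' _).comp psi)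
  have hinj : Function.Injective Ψ := by
    rw [injective_iff_map_eq_one]
    intro g hg
    have h1 : sgn (lab3 (g : Cs)) = 1 := congrArg Prod.fst hg
    have h2 : psi g ∈ Subgroup.center _ := (QuotientGroup.eq_one_iff _).mp (congrArg Prod.snd hg)
    rw [center_sp, Subgroup.mem_bot] at h2
    rcases psi_ker h2 with e | e
    · exact Subtype.ext (Subtype.ext e)
    · have hm : (g : Cs) = mem360 0 := Subtype.ext (by
        rw [e]; show z0 = model.d (fpt 0); rw [fpt_zero, model_d0])
      rw [hm, lab3_swap.1] at h1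
      exact absurd h1 (by show ¬ (if Equiv.Perm.sign (Equiv.swap (1 : Fin 3) 2) = 1 then (1 : Multiplicative (ZMod 2)) else _) = 1; decide)
  refine ⟨MulEquiv.ofBijective Ψ ((Nat.bijective_iff_injective_and_card _).mpr ⟨hinj, ?_⟩)⟩
  rw [card_stab0, Nat.card_prod, Nat.card_congr
    ((QuotientGroup.quotientMulEquivOfEq center_sp).trans QuotientGroup.quotientBot).toEquiv,
    show Nat.card (Matrix.symplecticGroup (Fin 3) (ZMod 2)) = 1451520 from Multiplier.Sp6.natCard_sp6]
  simp

end Cfsg.Agent.FischerM22.Outer
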