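/-
The three classes of outer involutions of Fi22 and the centraliser of the second (helper23).

Main results (namespace `Cfsg.Agent.FischerM22.Outer`):
* `classes`: an outer involution fixing a member is conjugate to one of the three representatives;
* `not_conj`: the representatives are pairwise nonconjugate;
* `sa_fixed_iff`, `csa_equiv`: the centraliser of the second representative.
-/
import Cfsg.Agent.Lib.FischerM22.Outer.CentS

set_option autoImplicit false
set_option maxRecDepth 100000

namespace Cfsg.Agent.FischerM22.Outer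

open Cfsg.Agent.CosetEnum Cfsg.Agent.CosetEnum.Data
open Cfsg.Agent.Fi22U62 (rho pt0 z0 rho_injective Hs mem_Hs_iff sec pperm phi tv)
open Cfsg.Agent.Fi22Aut (okw V P pt model model_d0 model_rho ctx)

/-- The transposition `z0` on numbers. -/
noncomputable def zN : ℕ := fi22h.trace [0]

/-- The second member on numbers. -/
noncomputable def bN : ℕ := V bWord

theorem b_check : (Nat.blt bIdx 120 && (okw bWord && (Nat.beq (P bWord) (fnum bIdx) &&
    (Nat.beq (sec (Fi22U62.pid (E 4))) (fnum bIdx) && (Nat.beq (fact bIdx 0) 0 && !Nat.beq (fnum bIdx) 0))))) = true := by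
  decide +kernel

theorem path_check : (wPath.all (fun i => Nat.blt i 360) && (Nat.beq wPath.length 2 &&
    Nat.beq (fact (wPath.getD 1 0) (fact (wPath.getD 0 0) 0)) bIdx)) = true := by
  decide +kernel

theorem bIdx_lt : bIdx < 360 := by decide +kernel

/-- The index of the second member. -/
noncomputable def bF : Fin 360 := ⟨bIdx, bIdx_lt⟩

/-- The second member. -/
noncomputable def bd : G22 := model.d (fpt bF)

theorem b_facts : pt bWord = fpt bF ∧ (sec (Fi22U62.pid (E 4)) = fnum bIdx) ∧
    Commute z0 bd ∧ fpt bF ≠ pt0 := by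
  have h := b_check
  simp only [Bool.and_eq_true, Bool.not_eq_true'] at h
  obtain ⟨-, hw, hP, hs, hc, hne⟩ := h
  refine ⟨Fin.ext (by rw [← Fi22Aut.P_eq hw]; exact Nat.eq_of_beq_eq_true hP), Nat.eq_of_beq_eq_true hs, ?_, fun e => ?_⟩
  · have hadj : model.Adj (fpt bF) (fpt 0) := (adj_fpt _ _).mpr (Nat.eq_of_beq_eq_true hc)
    rw [model.adj_iff, fpt_zero, model_d0] at hadj
    exact hadj.symm
  · have e' : fnum bIdx = 0 := congrArg Fin.val e
    rw [e', Nat.beq_refl] at hne
    exact absurd hne (by decide)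

theorem s_z0 : s z0 = z0 := by
  rw [← model_d0, acts_s, sPerm_pt0]

theorem s_bd : s bd = bd := by rw [bd, acts_s, sPerm_fpt]

theorem phi_bd (h : bd ∈ Hs) : phi ⟨bd, h⟩ = pperm tvE := by
  have hlt : Fi22U62.pid (E 4) < 693 := (iso_E 4).exists_smul.1
  obtain ⟨x, hx, hp⟩ := member_phi ⟨_, hlt⟩
  have e : mem693 ⟨Fi22U62.pid (E 4), hlt⟩ = fpt bF := Fin.ext b_facts.2.1
  rw [e] at hx
  rw [show (⟨bd, h⟩ : Hs) = x from Subtype.ext hx.symm, hp, tvE, ← pperm_tv_pid (iso_E 4)]

theorem bd_mem_Hs : bd ∈ Hs := by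
  rw [← Fi22U62.centralizer_z0, Subgroup.mem_centralizer_singleton_iff]
  exact b_facts.2.2.1.symm

theorem inn_coset {t : MulAut G22} (h : t ∉ (MulAut.conj : G22 →* MulAut G22).range) :
    ∃ g, t = s * MulAut.conj g := by
  have hs : s ∉ (MulAut.conj : G22 →* MulAut G22).range := fun ⟨g, hg⟩ => s_ne_conj g hg.symm
  obtain ⟨y, -, huniq⟩ := (Nat.card_eq_two_iff' (1 : Cfsg.Out G22)).mp Fi22Aut.card_out
  have h1 : (t : MulAut G22 ⧸ Cfsg.Inn G22) ≠ 1 := fun e => h ((QuotientGroup.eq_one_iff _).mp e)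
  have h2 : (s : MulAut G22 ⧸ Cfsg.Inn G22) ≠ 1 := fun e => hs ((QuotientGroup.eq_one_iff _).mp e)
  obtain ⟨g, hg⟩ := QuotientGroup.eq.mp ((huniq _ h2).trans (huniq _ h1).symm)
  exact ⟨g, by rw [hg, mul_inv_cancel_left]⟩

theorem conj_s (g : G22) : MulAut.conj g * s = s * MulAut.conj (s g) := MulEquiv.ext fun x => by
  simp [MulAut.mul_apply, map_mul, map_inv, s_s]

theorem shift (h x : G22) :
    MulAut.conj h * (s * MulAut.conj x) * (MulAut.conj h)⁻¹ = s * MulAut.conj (s h * x * h⁻¹) := by
  rw [← mul_assoc, conj_s, map_mul, map_mul, map_inv]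
  simp only [mul_assoc]

/-- The element carrying the base point to the second member. -/
noncomputable def wElt : G22 :=
  if h : ∀ i ∈ wPath, i < 360 then
    (if h2 : wPath.length = 2 then
      model.d (fpt ⟨wPath.getD 1 0, h _ (by rw [List.getD_eq_getElem _ _ (by omega)]; exact List.getElem_mem _)⟩) *
        model.d (fpt ⟨wPath.getD 0 0, h _ (by rw [List.getD_eq_getElem _ _ (by omega)]; exact List.getElem_mem _)⟩)
    else 1)
  else 1

theorem wElt_facts : s wElt = wElt ∧ wElt * z0 * wElt⁻¹ = bd := by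
  have h := path_check
  simp only [Bool.and_eq_true, List.all_eq_true, Nat.blt_eq] at h
  obtain ⟨hlt, hlen, hend⟩ := h
  have hlen' := Nat.eq_of_beq_eq_true hlen
  rw [wElt, dif_pos hlt, dif_pos hlen']
  refine ⟨by rw [map_mul, acts_s, acts_s, sPerm_fpt, sPerm_fpt], ?_⟩
  rw [← model_d0, conj_d, ← fpt_zero, map_mul, Equiv.Perm.mul_apply, rho_fmap, rho_fmap]
  exact congrArg (fun k => model.d (fpt k)) (Fin.ext (Nat.eq_of_beq_eq_true hend))

/-- An outer involution fixing a member is conjugate to a representative. -/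
theorem classes {t : MulAut G22} (hout : t ∉ (MulAut.conj : G22 →* MulAut G22).range) (hinv : t * t = 1)
    {i : Fin N22} (hfix : t (model.d i) = model.d i) :
    IsConj t s ∨ IsConj t (s * MulAut.conj z0) ∨ IsConj t (s * MulAut.conj (z0 * bd)) := by
  obtain ⟨g, hg⟩ := model.trans i pt0
  rw [model_rho] at hg
  set t' := MulAut.conj g * t * (MulAut.conj g)⁻¹ with ht'
  have hconj : IsConj t t' := isConj_iff.mpr ⟨MulAut.conj g, rfl⟩
  suffices hmain : IsConj t' s ∨ IsConj t' (s * MulAut.conj z0) ∨ IsConj t' (s * MulAut.conj (z0 * bd)) by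
    rcases hmain with h | h | h
    · exact Or.inl (hconj.trans h)
    · exact Or.inr (Or.inl (hconj.trans h))
    · exact Or.inr (Or.inr (hconj.trans h))
  have hout' : t' ∉ (MulAut.conj : G22 →* MulAut G22).range := fun h => hout (by
    have hc : MulAut.conj g ∈ (MulAut.conj : G22 →* MulAut G22).range := ⟨g, rfl⟩
    have := mul_mem (mul_mem (inv_mem hc) h) hc
    rwa [ht', ← mul_assoc, ← mul_assoc, inv_mul_cancel, one_mul, mul_assoc, inv_mul_cancel, mul_one] at this)
  have hinv' : t' * t' = 1 := by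
    rw [ht', show MulAut.conj g * t * (MulAut.conj g)⁻¹ * (MulAut.conj g * t * (MulAut.conj g)⁻¹) =
      MulAut.conj g * (t * t) * (MulAut.conj g)⁻¹ by group, hinv, mul_one, mul_inv_cancel]
  obtain ⟨k, hk⟩ := inn_coset hout'
  have ha : Acts t' (sPerm * rho k) := hk ▸ acts_s.mul (acts_conj k)
  have hk0 : k ∈ Hs := by
    have h0 : t' (model.d pt0) = model.d pt0 := by
      rw [ht', ← hg, ← conj_d]
      simp only [MulAut.mul_apply, ← map_inv, MulAut.conj_apply, inv_inv]
      rw [show g⁻¹ * (g * model.d i * g⁻¹) * g = model.d i by group, hfix]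
    rw [mem_Hs_iff]
    have := model.inj ((ha pt0).symm.trans h0)
    rw [Equiv.Perm.mul_apply] at this
    rw [← sPerm_sPerm (rho k pt0), this, sPerm_pt0]
  have hkk : s k * k = 1 := by
    apply rho_injective
    have := (ha.mul ha).unique (hinv' ▸ acts_one)
    rw [map_mul, rho_s, sPerm_inv, map_one, ← this]
    simp only [mul_assoc]
  obtain ⟨A, hA⟩ : phi ⟨k, hk0⟩ ∈ pperm.range := Fi22U62.range_eq ▸ MonoidHom.mem_range.mpr ⟨_, rfl⟩
  have hA1 : sB A * A = 1 := by
    refine twisted_eq_one ?_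
    rw [← Fi22U62.ker_pperm, MonoidHom.mem_ker, map_mul, pperm_sB, hA, ← phi_s ⟨k, hk0⟩, ← map_mul,
      ← map_one phi]
    exact congrArg phi (Subtype.ext hkk)
  obtain ⟨H, hH⟩ := exists_std hA1
  obtain ⟨h, hh⟩ : pperm H ∈ phi.range := Fi22U62.range_eq.symm ▸ MonoidHom.mem_range.mpr ⟨_, rfl⟩
  have hsh : phi ⟨s h, s_mem_Hs h.2⟩ = pperm (sB H) := by rw [phi_s, hh, pperm_sB]
  have key : ∀ (q : Hs) (Q : SU6), phi q = pperm Q → A = sB H * Q * H⁻¹ →
      IsConj t' (s * MulAut.conj (q : G22)) ∨ IsConj t' (s * MulAut.conj (z0 * (q : G22))) := by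
    intro q Q hq hAQ
    have hker : phi ((⟨k, hk0⟩ : Hs) * (⟨s h, s_mem_Hs h.2⟩ * q * h⁻¹)⁻¹) = 1 := by
      rw [map_mul, map_inv, map_mul, map_mul, map_inv, hsh, hq, hh, ← hA, hAQ, map_mul, map_mul, map_inv,
        mul_inv_cancel]
    have hz := ker_phi_cases hker
    simp only [Subgroup.coe_mul, Subgroup.coe_inv] at hz
    rcases hz with e | e
    · refine Or.inl (IsConj.symm (isConj_iff.mpr ⟨MulAut.conj (h : G22), ?_⟩))
      rw [shift, hk, mul_inv_eq_one.mp e]
    · refine Or.inr (IsConj.symm (isConj_iff.mpr ⟨MulAut.conj (h : G22), ?_⟩))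
      rw [shift, hk, mul_inv_eq_iff_eq_mul.mp e]
      have hc := Fi22U62.z0_comm (s_mem_Hs h.2)
      rw [← mul_assoc (s (h : G22)) z0, hc]
      simp only [mul_assoc]
  rcases hH with e | e
  · rcases key 1 1 (by rw [map_one, map_one]) (by rw [mul_one]; exact e) with h1 | h1
    · left
      rwa [Subgroup.coe_one, map_one, mul_one] at h1
    · right; left
      rwa [Subgroup.coe_one, mul_one] at h1
  · rcases key ⟨bd, bd_mem_Hs⟩ tvE (phi_bd _) e with h1 | h1
    · right; left
      refine h1.trans (IsConj.symm (isConj_iff.mpr ⟨MulAut.conj wElt, ?_⟩))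
      rw [shift, wElt_facts.1, wElt_facts.2]
    · exact Or.inr (Or.inr h1)

/-! ### Numbers of fixed members -/

theorem card_fixed_range (τ : Equiv.Perm (Fin N22)) (f : ℕ → ℕ) (hf : ∀ i, (τ i : ℕ) = f i) :
    Nat.card {i // τ i = i} = ((List.range 3510).filter fun i => Nat.beq (f i) i).length := by
  have hl : ((List.range 3510).filter fun i => Nat.beq (f i) i).length =
      ((Finset.range 3510).filter fun i => f i = i).card := by
    rw [← List.toFinset_card_of_nodup (List.nodup_range.filter _)]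
    congr 1
    ext i
    simp
  rw [hl, ← Nat.card_eq_finsetCard]
  refine Nat.card_congr
    { toFun := fun x => ⟨(x.1 : ℕ), Finset.mem_filter.mpr ⟨Finset.mem_range.mpr x.1.2, by rw [← hf, x.2]⟩⟩
      invFun := fun y => ⟨⟨y.1, Finset.mem_range.mp (Finset.mem_filter.mp y.2).1⟩,
        Fin.ext ((hf _).trans (Finset.mem_filter.mp y.2).2)⟩
      left_inv := fun x => rfl
      right_inv := fun y => rfl }

theorem zN_eq (i : Fin N22) : (rho z0 i : ℕ) = lane 13 zN i := by
  have hlt : ∀ a ∈ ([0] : List ℕ), a < fi22h.k := by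
    intro a ha
    rw [List.mem_singleton.mp ha]
    exact (show (0 : ℕ) < 9 by norm_num)
  rw [zN, ← Fi22Aut.rho_word hlt]
  simp [ev, z0]

theorem bN_eq (i : Fin N22) : (rho bd i : ℕ) = lane 13 bN i := by
  have h := b_check
  simp only [Bool.and_eq_true] at h
  have h2 := ctx.hV bWord h.2.1 i
  rw [model_rho, show ctx.pt bWord = fpt bF from b_facts.1] at h2
  exact h2.symm

theorem count_check : (Nat.beq ((List.range 3510).filter fun i => Nat.beq (piN i) i).length 360 &&
    (Nat.beq ((List.range 3510).filter fun i => Nat.beq (piN (lane 13 zN i)) i).length 64 &&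
      force bN fun Bt => force zN fun Zt =>
        Nat.beq ((List.range 3510).filter fun i => Nat.beq (piN (lane 13 Zt (lane 13 Bt i))) i).length 72)) = true := by
  decide +kernel

theorem acts_sa : Acts (s * MulAut.conj z0) (sPerm * rho z0) := acts_s.mul (acts_conj z0)

theorem acts_sab : Acts (s * MulAut.conj (z0 * bd)) (sPerm * rho (z0 * bd)) := acts_s.mul (acts_conj _)

theorem card_fixed_conj {t u : MulAut G22} {τ υ : Equiv.Perm (Fin N22)} (h : Acts t τ) (h' : Acts u υ)
    (hc : IsConj t u) : Nat.card {i // τ i = i} = Nat.card {i // υ i = i} := by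
  obtain ⟨c, hc⟩ := isConj_iff.mp hc
  obtain ⟨σ, hσ⟩ := exists_acts c
  have e := (((hσ.mul h).mul hσ.inv).unique (hc ▸ h')).symm
  subst e
  refine Nat.card_congr (σ.subtypeEquiv fun i => ?_)
  simp only [Equiv.Perm.mul_apply, Equiv.Perm.inv_def, Equiv.symm_apply_apply, σ.injective.eq_iff]

/-- The representatives are pairwise nonconjugate. -/
theorem not_conj : ¬ IsConj s (s * MulAut.conj z0) ∧ ¬ IsConj s (s * MulAut.conj (z0 * bd)) ∧
    ¬ IsConj (s * MulAut.conj z0) (s * MulAut.conj (z0 * bd)) := by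
  have h := count_check
  simp only [force_eq, Bool.and_eq_true] at h
  obtain ⟨h1, h2, h3⟩ := h
  have c1 : Nat.card {i // sPerm i = i} = 360 :=
    (card_fixed_range sPerm piN sPerm_val).trans (Nat.eq_of_beq_eq_true h1)
  have c2 : Nat.card {i // (sPerm * rho z0) i = i} = 64 :=
    (card_fixed_range _ (fun i => piN (lane 13 zN i)) fun i => by
      rw [Equiv.Perm.mul_apply, sPerm_val, zN_eq]).trans (Nat.eq_of_beq_eq_true h2)
  have c3 : Nat.card {i // (sPerm * rho (z0 * bd)) i = i} = 72 :=
    (card_fixed_range _ (fun i => piN (lane 13 zN (lane 13 bN i))) fun i => by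
      rw [Equiv.Perm.mul_apply, sPerm_val, map_mul, Equiv.Perm.mul_apply, zN_eq, bN_eq]).trans
      (Nat.eq_of_beq_eq_true h3)
  refine ⟨fun hc => ?_, fun hc => ?_, fun hc => ?_⟩
  · have := card_fixed_conj acts_s acts_sa hc; omega
  · have := card_fixed_conj acts_s acts_sab hc; omega
  · have := card_fixed_conj acts_sa acts_sab hc; omega

/-! ### The second centraliser -/

theorem sa_check : (force posTab fun T => force (frow 0) fun Z => (List.range 3510).all fun i =>
    !Nat.beq (piN (lane 13 zN i)) i || (Nat.beq (lane 13 zN i) i && (Nat.beq i 0 ||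
      force (lane 13 T i) fun l => !Nat.beq l 0 && (Nat.ble l 360 && (Nat.beq (fnum (l - 1)) i &&
        force (frow (l - 1)) fun R => (List.range 120).any fun q => Nat.beq (lane 9 Z q) q && !Nat.beq (lane 9 R q) q))))) = true := by
  decide +kernel

/-- The elements fixed by the second representative. -/
theorem sa_fixed_iff (g : G22) :
    (s * MulAut.conj z0) g = g ↔ g ∈ Cs ⊓ Subgroup.centralizer ({z0} : Set G22) := by
  rw [Subgroup.mem_inf, Subgroup.mem_centralizer_singleton_iff, MulAut.mul_apply, MulAut.conj_apply]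
  constructor
  · intro hg
    have hcomm := (fixed_iff acts_sa g).mp (by rw [MulAut.mul_apply, MulAut.conj_apply]; exact hg)
    set i := rho g pt0 with hi
    have hfix0 : (sPerm * rho z0) pt0 = pt0 := by
      rw [Equiv.Perm.mul_apply, show rho z0 pt0 = pt0 from (mem_Hs_iff z0).mp Fi22U62.z0_mem, sPerm_pt0]
    have hfix : (sPerm * rho z0) i = i := by
      rw [hi, ← Equiv.Perm.mul_apply, hcomm, Equiv.Perm.mul_apply, hfix0]
    have hsa := sa_check
    simp only [force_eq] at hsa
    have h := List.all_eq_true.mp hsa (i : ℕ) (List.mem_range.mpr i.2)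
    simp only [Bool.or_eq_true, Bool.and_eq_true, Bool.not_eq_true', List.any_eq_true, Nat.ble_eq, List.mem_range] at h
    have hnum : piN (lane 13 zN i) = i := by
      rw [← zN_eq, ← sPerm_val, ← Equiv.Perm.mul_apply, hfix]
    have hg0 : i = pt0 := by
      rcases h with e | ⟨-, e | ⟨e1, e2, e3, q, hq, e4, e5⟩⟩
      · rw [hnum, Nat.beq_refl] at e; exact absurd e (by decide)
      · exact Fin.ext (Nat.eq_of_beq_eq_true e)
      · exfalso
        have hl : lane 13 posTab i - 1 < 360 := by omega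
        have hk : fpt ⟨_, hl⟩ = i := Fin.ext (Nat.eq_of_beq_eq_true e3)
        have hadj0 : model.Adj pt0 (fpt ⟨q, by omega⟩) := by
          rw [← fpt_zero]; exact (adj_fpt _ _).mpr (Nat.eq_of_beq_eq_true e4)
        have hqfix : (sPerm * rho z0) (fpt ⟨q, by omega⟩) = fpt ⟨q, by omega⟩ := by
          rw [Equiv.Perm.mul_apply, show rho z0 (fpt ⟨q, _⟩) = fpt ⟨q, _⟩ from by rw [← model_d0]; exact hadj0, sPerm_fpt]
        set y := rho g⁻¹ (fpt ⟨q, by omega⟩) with hy
        have hcomm' := (fixed_iff acts_sa g⁻¹).mp (by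
          rw [map_inv, (fixed_iff acts_sa g).mpr hcomm])
        have hyfix : (sPerm * rho z0) y = y := by
          rw [hy, ← Equiv.Perm.mul_apply, hcomm', Equiv.Perm.mul_apply, hqfix]
        have h' := List.all_eq_true.mp hsa (y : ℕ) (List.mem_range.mpr y.2)
        simp only [Bool.or_eq_true, Bool.and_eq_true, Bool.not_eq_true'] at h'
        have hynum : piN (lane 13 zN y) = y := by
          rw [← zN_eq, ← sPerm_val, ← Equiv.Perm.mul_apply, hyfix]
        have hzy : model.Adj pt0 y := by
          rcases h' with e' | ⟨e', -⟩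
          · rw [hynum, Nat.beq_refl] at e'; exact absurd e' (by decide)
          · show rho (model.d pt0) y = y
            rw [model_d0]
            exact Fin.ext ((zN_eq y).trans (Nat.eq_of_beq_eq_true e'))
        have hadj := (model.adj_map g _ _).mpr hzy
        rw [model_rho, ← hi, ← hk, hy, ← Equiv.Perm.mul_apply, ← map_mul, mul_inv_cancel, map_one,
          Equiv.Perm.one_apply] at hadj
        rw [show lane 9 (frow (lane 13 posTab i - 1)) q = q from (adj_fpt _ _).mp hadj, Nat.beq_refl] at e5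
        exact absurd e5 (by decide)
    have hgH : g ∈ Hs := (mem_Hs_iff g).mpr hg0
    have hc := Fi22U62.z0_comm hgH
    refine ⟨?_, hc⟩
    show s g = g
    rwa [← hc, mul_inv_cancel_right] at hg
  · rintro ⟨h1, h2⟩
    rw [← h2, mul_inv_cancel_right]
    exact h1

theorem map_stab0 : stab0.map Cs.subtype = Cs ⊓ Subgroup.centralizer ({z0} : Set G22) := by
  ext g
  rw [Subgroup.mem_inf, Fi22U62.centralizer_z0, Subgroup.mem_map]
  constructor
  · rintro ⟨x, hx, rfl⟩
    exact ⟨x.2, stab0_mem_Hs ⟨x, hx⟩⟩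
  · rintro ⟨h1, h2⟩
    exact ⟨⟨g, h1⟩, mem_stab0_of_Hs h2, rfl⟩

/-- The centraliser of the second representative. -/
theorem csa_equiv : Nonempty (↥(Cs ⊓ Subgroup.centralizer ({z0} : Set G22)) ≃*
    Multiplicative (ZMod 2) × Cfsg.PSp 3 (ZMod 2)) := by
  obtain ⟨e⟩ := stab0_equiv
  exact ⟨((MulEquiv.subgroupCongr map_stab0.symm).trans
    (Subgroup.equivMapOfInjective stab0 _ Cs.subtype_injective).symm).trans e⟩

end Cfsg.Agent.FischerM22.Outer
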