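/-
An antilinear involution of the six-dimensional hermitian space over the field with four elements whose fixed
vectors form a symplectic space (helper23).

Main results (namespace `Cfsg.Agent.FischerM22.Outer`):
* `B`, `E`: the involution and a hyperbolic basis of fixed vectors;
* `sB`: the automorphism of SU6(2) it induces;
* `exists_pair`: hyperbolic pairs of fixed vectors for any such involution;
* `scal`: the scalars.
-/
import Cfsg.Agent.Lib.Fi22U62.Points
import Cfsg.Agent.Lib.ThreeTransSU.Transv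

set_option autoImplicit false

namespace Cfsg.Agent.FischerM22.Outer

open Cfsg.Agent.Unitary
open Cfsg.Agent.ThreeTransSU (hf act)
open Cfsg.Agent.Fi22U62 (V6)
open scoped Matrix

/-- The special unitary group. -/
abbrev SU6 : Type := ↥(Cfsg.SU 6 GF4 2)

theorem hF4 : Fintype.card GF4 = 4 := GF4.card

/-- Conjugation of the field. -/
def cj : GF4 →+* GF4 where
  toFun a := a * a
  map_one' := by decide
  map_mul' := by decide
  map_zero' := by decide
  map_add' := by decide

theorem cj_eq (a : GF4) : cj a = a ^ 2 := (pow_two a).symm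
theorem cj_cj : ∀ a : GF4, cj (cj a) = a := by decide
theorem fixed_cases : ∀ a : GF4, cj a = a → a = 0 ∨ a = 1 := by decide

theorem add_self' : ∀ a : GF4, a + a = 0 := by decide

/-- The matrix of the involution. -/
def Pm : Matrix (Fin 6) (Fin 6) GF4 :=
  !![.zr, .om2, .zr, .zr, .zr, .zr; .om2, .zr, .zr, .zr, .zr, .zr; .zr, .zr, .zr, .un, .zr, .zr;
    .zr, .zr, .un, .zr, .zr, .zr; .zr, .zr, .zr, .zr, .zr, .un; .zr, .zr, .zr, .zr, .un, .zr]

/-- The antilinear involution. -/
def B (v : V6) : V6 :=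
  Fi22U62.mk6 (.om2 * cj (v 1)) (.om2 * cj (v 0)) (cj (v 3)) (cj (v 2)) (cj (v 5)) (cj (v 4))

theorem B_mulVec (v : V6) : B v = Pm *ᵥ (fun i => cj (v i)) := by
  funext i
  fin_cases i <;>
    simp [B, Fi22U62.mk6, Pm, Matrix.mulVec, dotProduct, Fin.sum_univ_six,
      show (GF4.zr : GF4) = 0 from rfl, show (GF4.un : GF4) = 1 from rfl]

theorem B_add (u v : V6) : B (u + v) = B u + B v := by
  funext i
  fin_cases i <;> simp [B, Fi22U62.mk6, map_add, mul_add]

theorem B_smul (c : GF4) (v : V6) : B (c • v) = cj c • B v := by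
  funext i
  fin_cases i <;> simp [B, Fi22U62.mk6, map_mul, mul_left_comm]

theorem B_zero : B 0 = 0 := by
  funext i
  fin_cases i <;> simp [B, Fi22U62.mk6]

theorem B_B (v : V6) : B (B v) = v := by
  have key : ∀ a : GF4, (GF4.om2 : GF4) * (cj .om2 * a) = a := by decide
  funext i
  fin_cases i <;> simp [B, Fi22U62.mk6, map_mul, cj_cj, key]

theorem hf_B (u v : V6) : hf (B u) (B v) = cj (hf u v) := by
  have k1 : ∀ a b : GF4, .om2 * cj a * (.om2 * cj b) ^ 2 = cj (a * b ^ 2) := by decide +kernel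
  have k2 : ∀ a b : GF4, cj a * cj b ^ 2 = cj (a * b ^ 2) := by decide +kernel
  simp only [ThreeTransSU.hf, Cfsg.hermForm, Fin.sum_univ_six, map_add, B, Fi22U62.mk6, Matrix.cons_val, k1, k2]
  ring

theorem herm6 : IsHerm 2 (Cfsg.hermForm 6 GF4 2) := ThreeTransSU.herm hF4

theorem hf_symm (x y : V6) : hf y x = cj (hf x y) := by rw [cj_eq]; exact ThreeTransSU.hf_symm hF4 x y

/-- A hyperbolic basis of vectors fixed by the involution. -/
def E : Fin 6 → V6 :=
  ![Fi22U62.mk6 .om2 .un 0 0 0 0, Fi22U62.mk6 .om .om 0 0 0 0, Fi22U62.mk6 0 0 .un .un 0 0,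
    Fi22U62.mk6 0 0 .om .om2 0 0, Fi22U62.mk6 0 0 0 0 .un .un, Fi22U62.mk6 0 0 0 0 .om .om2]

/-- The partner index. -/
def pr : Fin 6 → Fin 6 := ![1, 0, 3, 2, 5, 4]

theorem B_E : ∀ k, B (E k) = E k := by decide +kernel

theorem hf_E : ∀ i j, hf (E i) (E j) = if j = pr i then 1 else 0 := by
  unfold ThreeTransSU.hf Cfsg.hermForm
  decide +kernel

/-- The basis as columns. -/
def Em : Matrix (Fin 6) (Fin 6) GF4 := Matrix.of fun i k => E k i

/-- The coordinates as rows. -/
def Fm : Matrix (Fin 6) (Fin 6) GF4 := Matrix.of fun k i => cj (E (pr k) i)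

theorem Em_Fm : Em * Fm = 1 := by decide +kernel

theorem Fm_mulVec (v : V6) (k : Fin 6) : (Fm *ᵥ v) k = hf v (E (pr k)) := by
  simp only [Fm, Matrix.mulVec, dotProduct, Matrix.of_apply, ThreeTransSU.hf, Cfsg.hermForm, cj_eq, mul_comm]

theorem Em_mulVec (c : V6) : Em *ᵥ c = ∑ k, c k • E k := by
  funext i
  simp only [Em, Matrix.mulVec, dotProduct, Matrix.of_apply, Finset.sum_apply, Pi.smul_apply, smul_eq_mul, mul_comm]

theorem expand (v : V6) : v = ∑ k, hf v (E (pr k)) • E k := by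
  conv_lhs => rw [← Matrix.one_mulVec v, ← Em_Fm, ← Matrix.mulVec_mulVec, Em_mulVec]
  exact Finset.sum_congr rfl fun k _ => by rw [Fm_mulVec]

theorem ext_E {g h : SU6} (H : ∀ k, suAct g (E k) = suAct h (E k)) : g = h := by
  have key : ∀ x, suAct g x = suAct h x := fun x => by
    conv_lhs => rw [expand x]
    conv_rhs => rw [expand x]
    simp only [suAct, Matrix.mulVec_sum, Matrix.mulVec_smul]
    exact Finset.sum_congr rfl fun k _ => congrArg _ (H k)
  exact suAct_ext key

/-- The matrix of an element. -/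
abbrev mat (g : SU6) : Matrix (Fin 6) (Fin 6) GF4 := (g : Matrix.SpecialLinearGroup (Fin 6) GF4)

theorem Pm_sq : Pm * Pm.map cj = 1 := by decide +kernel

theorem sB_mulVec (M : Matrix (Fin 6) (Fin 6) GF4) (v : V6) :
    (Pm * M.map cj * Pm.map cj) *ᵥ v = B (M *ᵥ B v) := by
  have h1 : ∀ (N : Matrix (Fin 6) (Fin 6) GF4) (w : V6),
      (fun i => cj ((N *ᵥ w) i)) = N.map cj *ᵥ fun i => cj (w i) := fun N w => by
    funext i
    exact RingHom.map_mulVec cj N w i
  rw [← Matrix.mulVec_mulVec, ← Matrix.mulVec_mulVec, B_mulVec (M *ᵥ B v), h1 M, B_mulVec v, h1 Pm]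
  simp only [cj_cj]

/-- The conjugate of a matrix under the involution. -/
noncomputable def sBfun (g : SU6) : SU6 :=
  suOfUnitary (Pm * (mat g).map cj * Pm.map cj)
    (fun u v => by
      show hf _ _ = hf u v
      rw [sB_mulVec, sB_mulVec, hf_B]
      show cj (hf (suAct g (B u)) (suAct g (B v))) = _
      rw [show hf (suAct g (B u)) (suAct g (B v)) = hf (B u) (B v) from suAct_herm g _ _, hf_B, cj_cj])
    (by
      have e := congrArg Matrix.det Pm_sq
      have hd : (mat g).det = 1 := (g : Matrix.SpecialLinearGroup (Fin 6) GF4).2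
      have hd' : ((mat g).map cj).det = 1 := by
        rw [← RingHom.mapMatrix_apply, ← RingHom.map_det, hd, map_one]
      rw [Matrix.det_mul, Matrix.det_one] at e
      rw [Matrix.det_mul, Matrix.det_mul, hd', mul_one, e])

theorem suAct_sBfun (g : SU6) (v : V6) : suAct (sBfun g) v = B (suAct g (B v)) := sB_mulVec _ v

/-- The automorphism induced by the involution. -/
noncomputable def sB : SU6 →* SU6 where
  toFun := sBfun
  map_one' := suAct_ext fun v => by rw [suAct_sBfun, suAct_one, B_B, suAct_one]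
  map_mul' g h := suAct_ext fun v => by
    rw [suAct_sBfun, suAct_mul, suAct_mul, suAct_sBfun, suAct_sBfun, B_B]

theorem suAct_sB (g : SU6) (v : V6) : suAct (sB g) v = B (suAct g (B v)) := suAct_sBfun g v

theorem sB_sB (g : SU6) : sB (sB g) = g := suAct_ext fun v => by
  rw [suAct_sB, suAct_sB, B_B, B_B]

/-! ### Scalars -/

theorem cube : ∀ c : GF4, c ≠ 0 → c * cj c = 1 := by decide

theorem six : ∀ c : GF4, c ≠ 0 → c * c * c * c * c * c = 1 := by decide

/-- A scalar. -/
noncomputable def scal (c : GF4) (hc : c ≠ 0) : SU6 :=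
  suOfUnitary (Matrix.scalar (Fin 6) c)
    (fun u v => by
      have e : ∀ w : V6, Matrix.scalar (Fin 6) c *ᵥ w = c • w := fun w => by
        funext i; simp [Matrix.mulVec_diagonal]
      show hf _ _ = hf u v
      rw [e, e, ThreeTransSU.hf_smul_left hF4, ThreeTransSU.hf_smul_right hF4, ← mul_assoc, ← cj_eq, cube c hc,
        one_mul])
    (by
      rw [Matrix.scalar_apply, Matrix.det_diagonal, Fin.prod_univ_six]
      exact six c hc)

theorem suAct_scal (c : GF4) (hc : c ≠ 0) (v : V6) : suAct (scal c hc) v = c • v := by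
  funext i
  simp [suAct, scal, Matrix.mulVec_diagonal]

theorem scal_mem_center (c : GF4) (hc : c ≠ 0) : scal c hc ∈ Subgroup.center SU6 :=
  (mem_center_SU_iff GF4.card (by norm_num) _).2 ⟨c, rfl⟩

theorem center_scal {z : SU6} (hz : z ∈ Subgroup.center SU6) : ∃ c : GF4, ∃ hc : c ≠ 0, z = scal c hc := by
  obtain ⟨c, hc⟩ := (mem_center_SU_iff GF4.card (by norm_num) _).1 hz
  have hc0 : c ≠ 0 := by
    rintro rfl
    have h := (z : Matrix.SpecialLinearGroup (Fin 6) GF4).2
    rw [hc, map_zero, Matrix.det_zero] at h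
    exact zero_ne_one h
  exact ⟨c, hc0, Subtype.ext (Subtype.ext hc)⟩

theorem sB_scal (c : GF4) (hc : c ≠ 0) (hc' : cj c ≠ 0) : sB (scal c hc) = scal (cj c) hc' :=
  suAct_ext fun v => by rw [suAct_sB, suAct_scal, B_smul, B_B, suAct_scal]

/-- A twisted involution in SU6(2) up to scalars is one. -/
theorem twisted_eq_one {A : SU6} (h : sB A * A ∈ Subgroup.center SU6) : sB A * A = 1 := by
  obtain ⟨c, hc, e⟩ := center_scal h
  have hc' : cj c ≠ 0 := fun h0 => hc (by rw [← cj_cj c, h0, map_zero])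
  have e1 : A * sB A = scal (cj c) hc' := by
    have := congrArg sB e
    rwa [map_mul, sB_sB, sB_scal c hc hc'] at this
  have e2 : scal c hc = scal (cj c) hc' := by
    have hcomm := Subgroup.mem_center_iff.1 (scal_mem_center (cj c) hc') A
    rw [← e, show sB A * A = A⁻¹ * (A * sB A) * A by group, e1, mul_assoc, ← hcomm, inv_mul_cancel_left]
  have e3 : c = cj c := by
    have h0 := congrFun (congrArg (fun g : SU6 => suAct g (E 4)) e2) 4
    simp only [suAct_scal] at h0
    simpa [E, Fi22U62.mk6, show (GF4.un : GF4) = 1 from rfl] using h0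
  rcases fixed_cases c e3.symm with rfl | rfl
  · exact absurd rfl hc
  · rw [e]
    exact suAct_ext fun v => by rw [suAct_scal, one_smul, suAct_one]

/-! ### Fixed vectors of a twisted involution -/

theorem exists_perp {m : ℕ} (w : Fin m → V6) (hm : m < 6) : ∃ z : V6, z ≠ 0 ∧ ∀ i, hf z (w i) = 0 := by
  let f : V6 →ₗ[GF4] (Fin m → GF4) :=
    { toFun := fun z i => hf z (w i)
      map_add' := fun x y => funext fun i => ThreeTransSU.hf_add_left hF4 x y _
      map_smul' := fun c x => funext fun i => ThreeTransSU.hf_smul_left hF4 c x _ }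
  have hk : LinearMap.ker f ≠ ⊥ := LinearMap.ker_ne_bot_of_finrank_lt (by simpa using hm)
  obtain ⟨z, hz, hz0⟩ := (Submodule.ne_bot_iff _).1 hk
  exact ⟨z, hz0, fun i => congrFun hz i⟩

variable (A : SU6)

/-- The twisted involution of an element. -/
def tw (v : V6) : V6 := B (suAct A v)

theorem tw_add (u v : V6) : tw A (u + v) = tw A u + tw A v := by rw [tw, suAct_add, B_add]; rfl

theorem tw_smul (c : GF4) (v : V6) : tw A (c • v) = cj c • tw A v := by rw [tw, suAct_smul, B_smul]; rfl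

theorem hf_tw (u v : V6) : hf (tw A u) (tw A v) = cj (hf u v) := by
  rw [tw, tw, hf_B]
  exact congrArg cj (suAct_herm A u v)

variable {A}

theorem tw_tw (h : sB A * A = 1) (v : V6) : tw A (tw A v) = v := by
  show B (suAct A (B (suAct A v))) = v
  rw [← suAct_sB, ← suAct_mul, h, suAct_one]

theorem hf_fixed {u v : V6} (hu : tw A u = u) (hv : tw A v = v) : hf u v = 0 ∨ hf u v = 1 := by
  refine fixed_cases _ ?_
  rw [← hf_tw A, hu, hv]

theorem split4 (z w : V6) : z = ((GF4.om : GF4) • z + (GF4.om2 : GF4) • w) + (GF4.om2 : GF4) • (z + w) := by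
  have k : ∀ a b : GF4, a = (GF4.om * a + GF4.om2 * b) + GF4.om2 * (a + b) := by decide +kernel
  funext i
  simp only [Pi.add_apply, Pi.smul_apply, smul_eq_mul]
  exact k _ _

/-- Two hyperbolic fixed vectors orthogonal to fixed vectors with nondegenerate complement. -/
theorem exists_pair (h : sB A * A = 1) {k : ℕ} (hk : k + 2 < 6) (c : Fin k → V6) (hc : ∀ i, tw A (c i) = c i)
    (hnd : ∀ u, (∀ i, hf u (c i) = 0) → u ≠ 0 → ∃ z, (∀ i, hf z (c i) = 0) ∧ hf u z ≠ 0) :
    ∃ u w : V6, tw A u = u ∧ tw A w = w ∧ hf u u = 0 ∧ hf w w = 0 ∧ hf u w = 1 ∧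
      (∀ i, hf u (c i) = 0) ∧ ∀ i, hf w (c i) = 0 := by
  have hsum : ∀ x y : V6, tw A x = x → tw A y = y → hf (x + y) (x + y) = hf x x + hf y y := fun x y hx hy => by
    rw [ThreeTransSU.hf_add_left hF4, ThreeTransSU.hf_add_right hF4, ThreeTransSU.hf_add_right hF4]
    have e : hf y x = hf x y := by rw [hf_symm, ← hf_tw A, hx, hy]
    have key : ∀ p q r : GF4, p + q + (q + r) = p + r := by decide +kernel
    rw [e]
    exact key _ _ _
  -- fixed parts
  have parts : ∀ z : V6, (∀ i, hf z (c i) = 0) →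
      ∃ a b : V6, tw A a = a ∧ tw A b = b ∧ (∀ i, hf a (c i) = 0) ∧ (∀ i, hf b (c i) = 0) ∧
        z = a + (GF4.om2 : GF4) • b := fun z hz => by
    have hz' : ∀ i, hf (tw A z) (c i) = 0 := fun i => by rw [← hc i, hf_tw, hz, map_zero]
    refine ⟨_, _, ?_, ?_, fun i => ?_, fun i => ?_, split4 z (tw A z)⟩
    · rw [tw_add, tw_smul, tw_smul, tw_tw h, show cj GF4.om = GF4.om2 by decide,
        show cj GF4.om2 = GF4.om by decide, add_comm]
    · rw [tw_add, tw_tw h, add_comm]
    · rw [ThreeTransSU.hf_add_left hF4, ThreeTransSU.hf_smul_left hF4, ThreeTransSU.hf_smul_left hF4, hz, hz',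
        mul_zero, mul_zero, add_zero]
    · rw [ThreeTransSU.hf_add_left hF4, hz, hz', add_zero]
  have partner : ∀ u : V6, tw A u = u → (∀ i, hf u (c i) = 0) → u ≠ 0 →
      ∃ w, tw A w = w ∧ (∀ i, hf w (c i) = 0) ∧ hf u w = 1 := fun u hu huc hu0 => by
    obtain ⟨z, hz, hne⟩ := hnd u huc hu0
    obtain ⟨a, b, ha, hb, hac, hbc, rfl⟩ := parts z hz
    rcases hf_fixed hu ha with e | e
    · rcases hf_fixed hu hb with e' | e'
      · exact absurd (by rw [ThreeTransSU.hf_add_right hF4, ThreeTransSU.hf_smul_right hF4, e, e', mul_zero,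
          add_zero]) hne
      · exact ⟨b, hb, hbc, e'⟩
    · exact ⟨a, ha, hac, e⟩
  -- a fixed vector orthogonal to two fixed vectors
  have perp2 : ∀ p q : V6, tw A p = p → tw A q = q →
      ∃ a, tw A a = a ∧ a ≠ 0 ∧ (∀ i, hf a (c i) = 0) ∧ hf a p = 0 ∧ hf a q = 0 := fun p q hp hq => by
    obtain ⟨z, hz0, hz⟩ := exists_perp (Fin.append c ![p, q]) hk
    have hzc : ∀ i, hf z (c i) = 0 := fun i => by simpa using hz (Fin.castAdd 2 i)
    have hzp : hf z p = 0 := by simpa using hz (Fin.natAdd k 0)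
    have hzq : hf z q = 0 := by simpa using hz (Fin.natAdd k 1)
    obtain ⟨a, b, ha, hb, hac, hbc, rfl⟩ := parts z hzc
    have sep : ∀ r : V6, tw A r = r → hf (a + (GF4.om2 : GF4) • b) r = 0 → hf a r = 0 ∧ hf b r = 0 := fun r hr e => by
      rw [ThreeTransSU.hf_add_left hF4, ThreeTransSU.hf_smul_left hF4] at e
      have key : ∀ x y : GF4, (x = 0 ∨ x = 1) → (y = 0 ∨ y = 1) → x + .om2 * y = 0 → x = 0 ∧ y = 0 := by
        decide +kernel
      exact key _ _ (hf_fixed ha hr) (hf_fixed hb hr) e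
    by_cases ha0 : a = 0
    · refine ⟨b, hb, fun hb0 => hz0 (by rw [ha0, hb0, smul_zero, add_zero]), hbc, ?_, ?_⟩
      · exact (sep p hp hzp).2
      · exact (sep q hq hzq).2
    · exact ⟨a, ha, ha0, hac, (sep p hp hzp).1, (sep q hq hzq).1⟩
  by_contra hno
  have ortho : ∀ x y : V6, tw A x = x → tw A y = y → (∀ i, hf x (c i) = 0) → (∀ i, hf y (c i) = 0) →
      hf x x = 0 → hf y y = 0 → hf x y = 0 := fun x y hx hy hxc hyc qx qy =>
    (hf_fixed hx hy).resolve_right fun e => hno ⟨x, y, hx, hy, qx, qy, e, hxc, hyc⟩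
  have h00 : ∀ x : V6, tw A x = x → (∀ i, hf x (c i) = 0) → x ≠ 0 → hf x x = 0 →
      ∃ w, tw A w = w ∧ (∀ i, hf w (c i) = 0) ∧ hf x w = 1 ∧ hf w w = 1 := fun x hx hxc hx0 qx => by
    obtain ⟨w, hw, hwc, e⟩ := partner x hx hxc hx0
    refine ⟨w, hw, hwc, e, (hf_fixed hw hw).resolve_left fun qw => ?_⟩
    rw [ortho x w hx hw hxc hwc qx qw] at e
    exact zero_ne_one e
  -- a vector of norm one and an isotropic vector
  obtain ⟨v, hv, hvc, qv⟩ : ∃ v, tw A v = v ∧ (∀ i, hf v (c i) = 0) ∧ hf v v = 1 := by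
    obtain ⟨a, ha, ha0, hac, -, -⟩ := perp2 0 0 (by rw [← zero_smul GF4 (0 : V6), tw_smul, map_zero, zero_smul, zero_smul])
      (by rw [← zero_smul GF4 (0 : V6), tw_smul, map_zero, zero_smul, zero_smul])
    rcases hf_fixed ha ha with qa | qa
    · obtain ⟨w, hw, hwc, -, qw⟩ := h00 a ha hac ha0 qa
      exact ⟨w, hw, hwc, qw⟩
    · exact ⟨a, ha, hac, qa⟩
  obtain ⟨x, hx, hxc, hx0, qx⟩ : ∃ x, tw A x = x ∧ (∀ i, hf x (c i) = 0) ∧ x ≠ 0 ∧ hf x x = 0 := by
    obtain ⟨a, ha, ha0, hac, hav, -⟩ := perp2 v v hv hv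
    rcases hf_fixed ha ha with qa | qa
    · exact ⟨a, ha, hac, ha0, qa⟩
    · refine ⟨a + v, by rw [tw_add, ha, hv], fun i => by rw [ThreeTransSU.hf_add_left hF4, hac, hvc, add_zero],
        fun e => ?_, by rw [hsum a v ha hv, qa, qv]; exact add_self' 1⟩
      have h1 := ThreeTransSU.hf_add_left hF4 a v v
      rw [e, ThreeTransSU.hf_zero_left hF4, hav, qv, zero_add] at h1
      exact zero_ne_one h1
  have perpv : ∀ u : V6, tw A u = u → (∀ i, hf u (c i) = 0) → hf u u = 0 → hf u v = 0 → u = 0 := fun u hu huc qu huv => by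
    by_contra hu0
    obtain ⟨w, hw, hwc, e, qw⟩ := h00 u hu huc hu0 qu
    have h1 := ortho u (w + v) hu (by rw [tw_add, hw, hv]) huc
      (fun i => by rw [ThreeTransSU.hf_add_left hF4, hwc, hvc, add_zero]) qu
      (by rw [hsum w v hw hv, qw, qv]; exact add_self' 1)
    rw [ThreeTransSU.hf_add_right hF4, e, huv, add_zero] at h1
    exact one_ne_zero h1
  have hxv : hf x v = 1 := (hf_fixed hx hv).resolve_left fun e => hx0 (perpv x hx hxc qx e)
  obtain ⟨a, ha, ha0, hac, hav, hax⟩ := perp2 v x hv hx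
  rcases hf_fixed ha ha with qa | qa
  · exact ha0 (perpv a ha hac qa hav)
  · -- a + v and x agree
    have hu : a + v + x = 0 := by
      refine perpv _ (by rw [tw_add, tw_add, ha, hv, hx])
        (fun i => by rw [ThreeTransSU.hf_add_left hF4, ThreeTransSU.hf_add_left hF4, hac, hvc, hxc, add_zero, add_zero]) ?_ ?_
      · rw [hsum _ _ (by rw [tw_add, ha, hv]) hx, hsum a v ha hv, qa, qv, qx, add_zero]
        exact add_self' 1
      · rw [ThreeTransSU.hf_add_left hF4, ThreeTransSU.hf_add_left hF4, hav, qv, hxv, zero_add]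
        exact add_self' 1
    have h1 : hf (a + v + x) x = 1 := by
      rw [ThreeTransSU.hf_add_left hF4, ThreeTransSU.hf_add_left hF4, hax, qx, hf_symm, hxv, map_one, zero_add,
        add_zero]
    rw [hu, ThreeTransSU.hf_zero_left hF4] at h1
    exact zero_ne_one h1

end Cfsg.Agent.FischerM22.Outer
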