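/-
Descent for antilinear involutions of the hermitian space over the field with four elements (helper23).

Main results (namespace `Cfsg.Agent.FischerM22.Outer`):
* `exists_std`: a twisted involution is twisted conjugate to one or to a standard transvection;
* `five_lines`, `all_lines`: elements fixing fixed isotropic points;
* `eSp`, `exists_eSp`: the fixed subgroup is Sp6(2).
-/
import Cfsg.Agent.Lib.FischerM22.Outer.Semi
import Mathlib.LinearAlgebra.SymplecticGroup

set_option autoImplicit false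

namespace Cfsg.Agent.FischerM22.Outer

open Cfsg.Agent.Unitary
open Cfsg.Agent.ThreeTransSU (hf)
open Cfsg.Agent.Fi22U62 (V6 tv tv_apply tv_conj)
open scoped Matrix

theorem iso_E (k : Fin 6) : Fi22U62.Iso (E k) := by
  refine ⟨fun h => ?_, ?_⟩
  · have h1 := hf_E k (pr k)
    rw [if_pos rfl, h, ThreeTransSU.hf_zero_left hF4] at h1
    exact zero_ne_one h1
  · have h1 := hf_E k k
    rwa [if_neg (show k ≠ pr k by revert k; decide)] at h1

theorem iso_add45 : Fi22U62.Iso (E 4 + E 5) := by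
  refine ⟨fun h => ?_, ?_⟩
  · have h1 : hf (E 4 + E 5) (E 4) = 1 := by
      rw [ThreeTransSU.hf_add_left hF4, hf_E, hf_E]; simp [pr]
    rw [h, ThreeTransSU.hf_zero_left hF4] at h1
    exact zero_ne_one h1
  · show hf _ _ = 0
    rw [ThreeTransSU.hf_add_left hF4, ThreeTransSU.hf_add_right hF4, ThreeTransSU.hf_add_right hF4, hf_E, hf_E, hf_E,
      hf_E]
    simp only [pr]
    decide +kernel

/-- The standard transvection. -/
noncomputable def tvE : SU6 := tv (E 4) (iso_E 4)

theorem sB_tv (v : V6) (hv : Fi22U62.Iso v) (hB : B v = v) : sB (tv v hv) = tv v hv := suAct_ext fun x => by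
  rw [suAct_sB, tv_apply, tv_apply, B_add, B_smul, B_B, hB]
  show x + cj (hf (B x) v) • v = x + hf x v • v
  conv_lhs => rw [← hB, hf_B, cj_cj]
  rw [hB]

theorem B_add45 : B (E 4 + E 5) = E 4 + E 5 := by rw [B_add, B_E, B_E]

theorem tv_conj_eq {u v w : V6} (hu : Fi22U62.Iso u) (hv : Fi22U62.Iso v) (hw : Fi22U62.Iso w)
    (h : suAct (tv u hu) v = w) : tv w hw = tv u hu * tv v hv * (tv u hu)⁻¹ := by
  rw [tv_conj]
  subst h
  rw [mul_inv_cancel_right]

set_option synthInstance.maxSize 2000 in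
/-- Elements on the last plane. -/
theorem block_cases {X : SU6} (hX : ∀ k : Fin 4, suAct X (E (Fin.castLE (by norm_num) k)) = E (Fin.castLE (by norm_num) k))
    (h : sB X * X = 1) : ∃ H : SU6, sB H = H ∧ (X = 1 ∨ X = H * tvE * H⁻¹) := by
  have hperp : ∀ k : Fin 6, 4 ≤ (k : ℕ) → suAct X (E k) = hf (suAct X (E k)) (E 5) • E 4 + hf (suAct X (E k)) (E 4) • E 5 := by
    intro k hk
    conv_lhs => rw [expand (suAct X (E k))]
    have hz : ∀ l : Fin 4, hf (suAct X (E k)) (E (Fin.castLE (by norm_num) l)) = 0 := fun l => by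
      conv_lhs => rw [← hX l]
      show hf _ _ = 0
      rw [show hf (suAct X (E k)) (suAct X (E (Fin.castLE (by norm_num) l))) = hf (E k) (E (Fin.castLE (by norm_num) l))
        from suAct_herm X _ _, hf_E, if_neg]
      revert hk l; revert k; decide
    have h0 := hz 0; have h1 := hz 1; have h2 := hz 2; have h3 := hz 3
    simp only [show (Fin.castLE (by norm_num : 4 ≤ 6) (0 : Fin 4)) = (0 : Fin 6) from rfl,
      show (Fin.castLE (by norm_num : 4 ≤ 6) (1 : Fin 4)) = (1 : Fin 6) from rfl,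
      show (Fin.castLE (by norm_num : 4 ≤ 6) (2 : Fin 4)) = (2 : Fin 6) from rfl,
      show (Fin.castLE (by norm_num : 4 ≤ 6) (3 : Fin 4)) = (3 : Fin 6) from rfl] at h0 h1 h2 h3
    rw [Fin.sum_univ_six]
    simp only [show pr 0 = 1 from rfl, show pr 1 = 0 from rfl, show pr 2 = 3 from rfl, show pr 3 = 2 from rfl,
      show pr 4 = 5 from rfl, show pr 5 = 4 from rfl, h0, h1, h2, h3, zero_smul, zero_add]
  have e4 := hperp 4 le_rfl
  have e5 := hperp 5 (by norm_num)
  set a := hf (suAct X (E 4)) (E 5)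
  set b := hf (suAct X (E 4)) (E 4)
  set c := hf (suAct X (E 5)) (E 5)
  set d := hf (suAct X (E 5)) (E 4)
  have hh : ∀ p q r s : GF4, hf (p • E 4 + q • E 5) (r • E 4 + s • E 5) = p * cj s + q * cj r := by
    intro p q r s
    simp only [ThreeTransSU.hf_add_left hF4, ThreeTransSU.hf_add_right hF4, ThreeTransSU.hf_smul_left hF4,
      ThreeTransSU.hf_smul_right hF4, hf_E, ← cj_eq]
    simp [pr]
  have q1 : a * cj b + b * cj a = 0 := by
    rw [← hh, ← e4, show hf (suAct X (E 4)) (suAct X (E 4)) = hf (E 4) (E 4) from suAct_herm X _ _, hf_E]; rfl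
  have q2 : c * cj d + d * cj c = 0 := by
    rw [← hh, ← e5, show hf (suAct X (E 5)) (suAct X (E 5)) = hf (E 5) (E 5) from suAct_herm X _ _, hf_E]; rfl
  have q3 : a * cj d + b * cj c = 1 := by
    rw [← hh, ← e4, ← e5, show hf (suAct X (E 4)) (suAct X (E 5)) = hf (E 4) (E 5) from suAct_herm X _ _, hf_E]; rfl
  have hinv : ∀ k : Fin 6, B (suAct X (B (suAct X (E k)))) = E k := fun k => by
    rw [← suAct_sB, ← suAct_mul, h, suAct_one]
  have hB2 : ∀ p q : GF4, B (p • E 4 + q • E 5) = cj p • E 4 + cj q • E 5 := fun p q => by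
    rw [B_add, B_smul, B_smul, B_E, B_E]
  have hcomb : ∀ p q : GF4, B (suAct X (B (p • E 4 + q • E 5))) =
      (p * cj a + q * cj c) • E 4 + (p * cj b + q * cj d) • E 5 := fun p q => by
    rw [hB2, suAct_add, suAct_smul, suAct_smul, e4, e5, smul_add, smul_add, smul_smul, smul_smul, smul_smul,
      smul_smul, B_add, hB2, hB2, map_mul, map_mul, map_mul, map_mul, cj_cj, cj_cj, add_smul, add_smul]
    abel
  have coef : ∀ p q r s : GF4, p • E 4 + q • E 5 = r • E 4 + s • E 5 → p = r ∧ q = s := by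
    intro p q r s e
    have a1 := congrArg (fun v => hf v (E 5)) e
    have a2 := congrArg (fun v => hf v (E 4)) e
    simp only [ThreeTransSU.hf_add_left hF4, ThreeTransSU.hf_smul_left hF4, hf_E] at a1 a2
    simp [pr] at a1 a2
    exact ⟨a1, a2⟩
  have i4 : a * cj a + b * cj c = 1 ∧ a * cj b + b * cj d = 0 := by
    refine coef _ _ _ _ ?_
    rw [← hcomb, ← e4, hinv, one_smul, zero_smul, add_zero]
  have i5 : c * cj a + d * cj c = 0 ∧ c * cj b + d * cj d = 1 := by
    refine coef _ _ _ _ ?_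
    rw [← hcomb, ← e5, hinv, one_smul, zero_smul, zero_add]
  have hdet : a * d + c * b = 1 := by
    set D : Matrix (Fin 6) (Fin 6) GF4 := Matrix.reindex (finSumFinEquiv : Fin 4 ⊕ Fin 2 ≃ Fin 6) finSumFinEquiv
      (Matrix.fromBlocks 1 0 0 !![a, c; b, d]) with hD
    have hcol : mat X * Em = Em * D := by
      refine Matrix.ext fun i k => ?_
      have hl : (mat X * Em) i k = suAct X (E k) i := rfl
      rw [hl, Matrix.mul_apply, Fin.sum_univ_six]
      have h0 := congrFun (hX 0) i; have h1 := congrFun (hX 1) i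
      have h2 := congrFun (hX 2) i; have h3 := congrFun (hX 3) i
      have h4 := congrFun e4 i; have h5 := congrFun e5 i
      fin_cases k <;>
        simp [hD, Em, Matrix.reindex_apply, finSumFinEquiv, Fin.addCases, Matrix.one_apply] at h0 h1 h2 h3 h4 h5 ⊢ <;>
        first | exact h0 | exact h1 | exact h2 | exact h3 | linear_combination h4 | linear_combination h5
    have e := congrArg Matrix.det hcol
    rw [Matrix.det_mul, Matrix.det_mul, show (mat X).det = 1 from (X : Matrix.SpecialLinearGroup (Fin 6) GF4).2,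
      one_mul] at e
    have hne : Em.det ≠ 0 := fun h0 => by
      have := congrArg Matrix.det Em_Fm
      rw [Matrix.det_mul, h0, zero_mul, Matrix.det_one] at this
      exact zero_ne_one this
    have hDdet : D.det = a * d + c * b := by
      rw [hD, Matrix.det_reindex_self, Matrix.det_fromBlocks_zero₂₁, Matrix.det_one, one_mul, Matrix.det_fin_two_of]
      have key : ∀ p q : GF4, p - q = p + q := by decide +kernel
      exact key _ _
    rw [← hDdet]
    exact mul_left_cancel₀ hne (by rw [mul_one]; exact e.symm)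
  have key : ∀ a b c d : GF4, a * cj b + b * cj a = 0 → c * cj d + d * cj c = 0 → a * cj d + b * cj c = 1 →
      a * cj a + b * cj c = 1 → a * cj b + b * cj d = 0 → c * cj a + d * cj c = 0 → c * cj b + d * cj d = 1 →
      a * d + c * b = 1 →
      (a, b, c, d) = (1, 0, 0, 1) ∨ (a, b, c, d) = (1, 0, 1, 1) ∨ (a, b, c, d) = (1, 1, 0, 1) ∨
        (a, b, c, d) = (0, 1, 1, 0) := by decide +kernel
  have hval : ∀ (v : V6) (hv : Fi22U62.Iso v), (∀ k : Fin 4, hf (E (Fin.castLE (by norm_num) k)) v = 0) →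
      suAct (tv v hv) (E 4) = a • E 4 + b • E 5 → suAct (tv v hv) (E 5) = c • E 4 + d • E 5 → X = tv v hv := by
    intro v hv hp h4 h5
    refine ext_E fun k => ?_
    have hf4 : ∀ l : Fin 4, suAct (tv v hv) (E (Fin.castLE (by norm_num) l)) = E (Fin.castLE (by norm_num) l) := fun l => by
      rw [tv_apply, show Cfsg.hermForm 6 GF4 2 _ v = 0 from hp l, zero_smul, add_zero]
    fin_cases k
    · exact (hX 0).trans (hf4 0).symm
    · exact (hX 1).trans (hf4 1).symm
    · exact (hX 2).trans (hf4 2).symm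
    · exact (hX 3).trans (hf4 3).symm
    · exact e4.trans h4.symm
    · exact e5.trans h5.symm
  have hp4 : ∀ k : Fin 4, hf (E (Fin.castLE (by norm_num) k)) (E 4) = 0 := fun k => by
    rw [hf_E, if_neg]; revert k; decide
  have hp5 : ∀ k : Fin 4, hf (E (Fin.castLE (by norm_num) k)) (E 5) = 0 := fun k => by
    rw [hf_E, if_neg]; revert k; decide
  have hp45 : ∀ k : Fin 4, hf (E (Fin.castLE (by norm_num) k)) (E 4 + E 5) = 0 := fun k => by
    rw [ThreeTransSU.hf_add_right hF4, hp4, hp5, add_zero]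
  have h44 : hf (E 4) (E 4) = 0 := by rw [hf_E]; rfl
  have h55 : hf (E 5) (E 5) = 0 := by rw [hf_E]; rfl
  have h45 : hf (E 4) (E 5) = 1 := by rw [hf_E]; rfl
  have h54 : hf (E 5) (E 4) = 1 := by rw [hf_E]; rfl
  have happ : ∀ (v : V6) (hv : Fi22U62.Iso v) (x : V6), suAct (tv v hv) x = x + hf x v • v := fun v hv x => tv_apply hv x
  rcases key a b c d q1 q2 q3 i4.1 i4.2 i5.1 i5.2 hdet with e | e | e | e <;>
    simp only [Prod.mk.injEq] at e <;> obtain ⟨ha, hb, hc, hd⟩ := e
  · refine ⟨1, map_one _, Or.inl (ext_E fun k => ?_)⟩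
    rw [suAct_one]
    fin_cases k
    · exact hX 0
    · exact hX 1
    · exact hX 2
    · exact hX 3
    · exact e4.trans (by simp [ha, hb])
    · exact e5.trans (by simp [hc, hd])
  · refine ⟨1, map_one _, Or.inr ?_⟩
    rw [one_mul, inv_one, mul_one]
    refine hval _ _ hp4 ?_ ?_
    · rw [happ, h44, ha, hb]; simp
    · rw [happ, h54, hc, hd]; simp [add_comm]
  · refine ⟨tv (E 4 + E 5) iso_add45, sB_tv _ _ B_add45, Or.inr ?_⟩
    rw [tvE, ← tv_conj_eq iso_add45 (iso_E 4) (iso_E 5)]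
    · refine hval _ _ hp5 ?_ ?_
      · rw [happ, h45, ha, hb, one_smul, one_smul]
      · rw [happ, h55, hc, hd]; simp
    · rw [happ, ThreeTransSU.hf_add_right hF4, h44, h45, zero_add, one_smul, ← add_assoc,
        ThreeTransSU.vadd_self hF4, zero_add]
  · refine ⟨tv (E 5) (iso_E 5), sB_tv _ _ (B_E 5), Or.inr ?_⟩
    rw [tvE, ← tv_conj_eq (iso_E 5) (iso_E 4) iso_add45]
    · refine hval _ _ hp45 ?_ ?_
      · rw [happ, ThreeTransSU.hf_add_right hF4, h44, h45, zero_add, one_smul, ← add_assoc,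
          ThreeTransSU.vadd_self hF4, ha, hb]
        simp
      · rw [happ, ThreeTransSU.hf_add_right hF4, h54, h55, add_zero, one_smul, hc, hd, add_left_comm,
          ThreeTransSU.vadd_self hF4]
        simp
    · rw [happ, h45, one_smul]

/-- A twisted involution is twisted conjugate to one or to the standard transvection. -/
theorem exists_std {A : SU6} (h : sB A * A = 1) : ∃ H : SU6, A = sB H * H⁻¹ ∨ A = sB H * tvE * H⁻¹ := by
  obtain ⟨u1, w1, hu1, hw1, qu1, qw1, e1, -, -⟩ := exists_pair h (k := 0) (by norm_num) Fin.elim0 (fun i => i.elim0)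
    (fun u _ hu0 => by
      by_contra hno
      push Not at hno
      exact hu0 (hermForm_nondeg GF4.card 6 u fun y => hno y (fun i => i.elim0)))
  have hzero : ∀ x : V6, x ≠ 0 → ∃ z, hf x z ≠ 0 := fun x hx => by
    by_contra hno
    push Not at hno
    exact hx (hermForm_nondeg GF4.card 6 x hno)
  have e1' : hf w1 u1 = 1 := by rw [hf_symm, e1, map_one]
  obtain ⟨u2, w2, hu2, hw2, qu2, qw2, e2, hu2c, hw2c⟩ := exists_pair h (k := 2) (by norm_num) ![u1, w1]
    (fun i => by fin_cases i <;> simp [hu1, hw1])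
    (fun u hu hu0 => by
      have a1 : hf u u1 = 0 := hu 0
      have a2 : hf u w1 = 0 := hu 1
      obtain ⟨z, hz⟩ := hzero u hu0
      refine ⟨z + (hf z w1 • u1 + hf z u1 • w1), fun i => ?_, ?_⟩
      · fin_cases i
        · show hf _ u1 = 0
          rw [ThreeTransSU.hf_add_left hF4, ThreeTransSU.hf_add_left hF4, ThreeTransSU.hf_smul_left hF4,
            ThreeTransSU.hf_smul_left hF4, qu1, e1', mul_zero, zero_add, mul_one, add_self']
        · show hf _ w1 = 0
          rw [ThreeTransSU.hf_add_left hF4, ThreeTransSU.hf_add_left hF4, ThreeTransSU.hf_smul_left hF4,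
            ThreeTransSU.hf_smul_left hF4, qw1, e1, mul_zero, add_zero, mul_one, add_self']
      · rwa [ThreeTransSU.hf_add_right hF4, ThreeTransSU.hf_add_right hF4, ThreeTransSU.hf_smul_right hF4,
          ThreeTransSU.hf_smul_right hF4, a1, a2, mul_zero, mul_zero, add_zero, add_zero])
  have a11 : hf u2 u1 = 0 := hu2c 0
  have a12 : hf u2 w1 = 0 := hu2c 1
  have a21 : hf w2 u1 = 0 := hw2c 0
  have a22 : hf w2 w1 = 0 := hw2c 1
  have e2' : hf w2 u2 = 1 := by rw [hf_symm, e2, map_one]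
  have b11 : hf u1 u2 = 0 := by rw [hf_symm, a11, map_zero]
  have b12 : hf w1 u2 = 0 := by rw [hf_symm, a12, map_zero]
  have b21 : hf u1 w2 = 0 := by rw [hf_symm, a21, map_zero]
  have b22 : hf w1 w2 = 0 := by rw [hf_symm, a22, map_zero]
  let U : Fin 4 → V6 := ![u1, w1, u2, w2]
  let W : Fin 4 → V6 := fun k => E (Fin.castLE (by norm_num) k)
  have hgU : ∀ i j : Fin 4, hf (U i) (U j) = hf (W i) (W j) := by
    intro i j
    show _ = hf (E _) (E _)
    rw [hf_E]
    fin_cases i <;> fin_cases j <;>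
      simp [U, pr, qu1, qw1, e1, e1', qu2, qw2, e2, e2', a11, a12, a21, a22, b11, b12, b21, b22]
  have hli : ∀ Z : Fin 4 → V6, (∀ i j : Fin 4, hf (Z i) (Z j) = hf (W i) (W j)) → LinearIndependent GF4 Z := by
    intro Z hZ
    rw [Fintype.linearIndependent_iff]
    intro cs hcs i
    have key : ∀ j : Fin 4, ∑ i, cs i * hf (W i) (W j) = 0 := fun j => by
      have := congrArg (fun v => hf v (Z j)) hcs
      rw [Fin.sum_univ_four] at this ⊢
      simpa only [ThreeTransSU.hf_add_left hF4, ThreeTransSU.hf_smul_left hF4, ThreeTransSU.hf_zero_left hF4, hZ]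
        using this
    have k0 := key 0; have k1 := key 1; have k2 := key 2; have k3 := key 3
    simp only [Fin.sum_univ_four, W, hf_E] at k0 k1 k2 k3
    simp [pr] at k0 k1 k2 k3
    fin_cases i <;> assumption
  let e0 : V6 := Fi22U62.mk6 0 0 0 0 .un 0
  have he0 : hf e0 e0 = 1 ∧ ∀ k : Fin 6, (k : ℕ) < 4 → hf (E k) e0 = 0 := by
    unfold ThreeTransSU.hf Cfsg.hermForm
    decide +kernel
  obtain ⟨g, hg⟩ := exists_su_witt GF4.card (hli U hgU) (hli W fun _ _ => rfl) (fun i j => (hgU i j).symm) he0.1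
    (fun i => he0.2 _ i.2)
  set H : SU6 := g⁻¹
  have hH' : ∀ k : Fin 4, suAct H (W k) = U k := fun k => by
    rw [show W k = suAct g (U k) from (hg k).symm, suAct_inv_suAct]
  have hUfix : ∀ k : Fin 4, B (suAct A (U k)) = U k := fun k => by
    fin_cases k
    exacts [hu1, hw1, hu2, hw2]
  set X : SU6 := (sB H)⁻¹ * A * H with hX
  have hfix : ∀ k : Fin 4, suAct X (W k) = W k := fun k => by
    rw [hX, suAct_mul, suAct_mul, hH', ← map_inv, suAct_sB, hUfix, ← hH', suAct_inv_suAct]
    exact B_E _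
  have hinv : sB X * X = 1 := by
    rw [hX, map_mul, map_mul, map_inv, sB_sB]
    calc H⁻¹ * sB A * sB H * ((sB H)⁻¹ * A * H) = H⁻¹ * (sB A * A) * H := by group
      _ = 1 := by rw [h, mul_one, inv_mul_cancel]
  obtain ⟨K, hK, e | e⟩ := block_cases hfix hinv
  · refine ⟨H, Or.inl ?_⟩
    rw [hX] at e
    calc A = sB H * ((sB H)⁻¹ * A * H) * H⁻¹ := by group
      _ = _ := by rw [e, mul_one]
  · refine ⟨H * K, Or.inr ?_⟩
    rw [hX] at e
    calc A = sB H * ((sB H)⁻¹ * A * H) * H⁻¹ := by group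
      _ = sB H * (K * tvE * K⁻¹) * H⁻¹ := by rw [e]
      _ = _ := by rw [map_mul, hK]; group

/-- Elements fixing the fixed points orthogonal to the centre. -/
theorem five_lines {A : SU6} (h : ∀ v : V6, v ≠ 0 → B v = v → hf v (E 4) = 0 → ∃ r : GF4, suAct A v = r • v) :
    ∃ z ∈ Subgroup.center SU6, A = z ∨ A = z * tvE := by
  have hE : ∀ k : Fin 6, k ≠ 5 → ∃ r : GF4, suAct A (E k) = r • E k := fun k hk =>
    h _ (iso_E k).1 (B_E k) (by rw [hf_E, if_neg]; revert k; decide)
  choose r hr using hE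
  have h0 := hr 0 (by decide)
  set r0 := r 0 (by decide)
  have hr0 : r0 ≠ 0 := fun e => suAct_ne_zero A (iso_E 0).1 (by rw [h0, e, zero_smul])
  have hsame : ∀ k : Fin 6, ∀ hk : k ≠ 5, r k hk = r0 := by
    intro k hk
    by_cases hk0 : k = 0
    · subst hk0; rfl
    have hp : hf (E 0) (E (pr k)) = 0 ∧ hf (E k) (E (pr 0)) = 0 ∧ hf (E k) (E (pr k)) = 1 ∧ hf (E 0) (E (pr 0)) = 1 := by
      simp only [hf_E]
      revert hk hk0; revert k; decide
    have hne : E 0 + E k ≠ 0 := fun e => by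
      have := congrArg (fun v => hf v (E (pr 0))) e
      simp only [ThreeTransSU.hf_add_left hF4, ThreeTransSU.hf_zero_left hF4, hp.2.1, hp.2.2.2, add_zero] at this
      exact one_ne_zero this
    obtain ⟨t, ht⟩ := h _ hne (by rw [B_add, B_E, B_E]) (by
      rw [ThreeTransSU.hf_add_left hF4, hf_E, hf_E, if_neg, if_neg, add_zero] <;> (revert hk; revert k; decide))
    rw [suAct_add, h0, hr k hk, smul_add] at ht
    have a1 := congrArg (fun v => hf v (E (pr 0))) ht
    have a2 := congrArg (fun v => hf v (E (pr k))) ht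
    simp only [ThreeTransSU.hf_add_left hF4, ThreeTransSU.hf_smul_left hF4, hp.1, hp.2.1, hp.2.2.1, hp.2.2.2,
      mul_zero, mul_one, add_zero, zero_add] at a1 a2
    exact a2.trans a1.symm
  set z := scal r0 hr0
  have hz := scal_mem_center r0 hr0
  set X := z⁻¹ * A with hX
  have hfix : ∀ k : Fin 6, k ≠ 5 → suAct X (E k) = E k := fun k hk => by
    rw [hX, suAct_mul, hr k hk, hsame k hk, ← suAct_scal r0 hr0, suAct_inv_suAct]
  refine ⟨z, hz, ?_⟩
  have hc : ∀ k : Fin 6, k ≠ 4 → hf (suAct X (E 5)) (E k) = 0 ∨ k = 5 := fun k hk => by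
    by_cases h5 : k = 5
    · exact Or.inr h5
    · left
      conv_lhs => rw [← hfix k h5]
      show hf _ _ = 0
      rw [show hf (suAct X (E 5)) (suAct X (E k)) = hf (E 5) (E k) from suAct_herm X _ _, hf_E, if_neg]
      revert hk; revert k; decide
  have h54 : hf (suAct X (E 5)) (E 4) = 1 := by
    conv_lhs => rw [← hfix 4 (by decide)]
    show hf _ _ = 1
    rw [show hf (suAct X (E 5)) (suAct X (E 4)) = hf (E 5) (E 4) from suAct_herm X _ _, hf_E]
    rfl
  have e5 : suAct X (E 5) = hf (suAct X (E 5)) (E 5) • E 4 + E 5 := by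
    have h0 := (hc 0 (by decide)).resolve_right (by decide)
    have h1 := (hc 1 (by decide)).resolve_right (by decide)
    have h2 := (hc 2 (by decide)).resolve_right (by decide)
    have h3 := (hc 3 (by decide)).resolve_right (by decide)
    conv_lhs => rw [expand (suAct X (E 5))]
    rw [Fin.sum_univ_six]
    simp only [show pr 0 = 1 from rfl, show pr 1 = 0 from rfl, show pr 2 = 3 from rfl, show pr 3 = 2 from rfl,
      show pr 4 = 5 from rfl, show pr 5 = 4 from rfl, h0, h1, h2, h3, h54, zero_smul, zero_add, one_smul]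
  have hX1 : ∀ g : SU6, (∀ k : Fin 6, k ≠ 5 → suAct g (E k) = E k) → suAct g (E 5) = suAct X (E 5) → X = g :=
    fun g hg hg5 => ext_E fun k => by
      by_cases hk : k = 5
      · subst hk; exact hg5.symm
      · rw [hfix k hk, hg k hk]
  have hq : hf (suAct X (E 5)) (E 5) = 0 ∨ hf (suAct X (E 5)) (E 5) = 1 := by
    set t := hf (suAct X (E 5)) (E 5)
    refine fixed_cases t ?_
    have h55 : hf (suAct X (E 5)) (suAct X (E 5)) = 0 := by
      rw [show hf (suAct X (E 5)) (suAct X (E 5)) = hf (E 5) (E 5) from suAct_herm X _ _, hf_E]; rfl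
    rw [e5] at h55
    simp only [ThreeTransSU.hf_add_left hF4, ThreeTransSU.hf_add_right hF4, ThreeTransSU.hf_smul_left hF4,
      ThreeTransSU.hf_smul_right hF4, hf_E, ← cj_eq] at h55
    simp [pr] at h55
    have key : ∀ t : GF4, t + cj t = 0 → cj t = t := by decide +kernel
    exact key t h55
  rcases hq with e | e
  · left
    rw [e, zero_smul, zero_add] at e5
    have := hX1 1 (fun k _ => suAct_one _) (by rw [suAct_one, e5])
    rw [hX, inv_mul_eq_one] at this
    exact this.symm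
  · right
    rw [e, one_smul] at e5
    have := hX1 tvE (fun k hk => by
      show suAct (tv _ _) _ = _
      rw [tv_apply, show Cfsg.hermForm 6 GF4 2 (E k) (E 4) = 0 by
        show hf _ _ = 0
        rw [hf_E, if_neg]; revert hk; revert k; decide, zero_smul, add_zero])
      (by
        show suAct (tv _ _) _ = _
        rw [tv_apply, show Cfsg.hermForm 6 GF4 2 (E 5) (E 4) = 1 by show hf _ _ = 1; rw [hf_E]; rfl, one_smul, e5,
          add_comm])
    rw [← this, hX, mul_inv_cancel_left]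

/-- Elements fixing all fixed points are scalars. -/
theorem all_lines {A : SU6} (h : ∀ v : V6, v ≠ 0 → B v = v → ∃ r : GF4, suAct A v = r • v) :
    A ∈ Subgroup.center SU6 := by
  obtain ⟨z, hz, rfl | e⟩ := five_lines fun v hv hB _ => h v hv hB
  · exact hz
  · exfalso
    obtain ⟨c, hc, rfl⟩ := center_scal hz
    obtain ⟨r, hr⟩ := h _ (iso_E 5).1 (B_E 5)
    rw [e, suAct_mul, show suAct tvE (E 5) = E 5 + E 4 by
      show suAct (tv _ _) _ = _
      rw [tv_apply, show Cfsg.hermForm 6 GF4 2 (E 5) (E 4) = 1 by show hf _ _ = 1; rw [hf_E]; rfl, one_smul],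
      suAct_scal, smul_add] at hr
    have := congrArg (fun v => hf v (E 5)) hr
    simp only [ThreeTransSU.hf_add_left hF4, ThreeTransSU.hf_smul_left hF4, hf_E] at this
    simp [pr] at this
    exact hc this

/-- A scalar multiple fixed by the involution. -/
theorem exists_fixed_scal {A : SU6} (h : sB A * A⁻¹ ∈ Subgroup.center SU6) :
    ∃ z ∈ Subgroup.center SU6, sB (A * z) = A * z := by
  obtain ⟨c, hc, e⟩ := center_scal h
  have hcc : c * c ≠ 0 := mul_ne_zero hc hc
  refine ⟨scal (c * c) hcc, scal_mem_center _ hcc, ?_⟩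
  have e' : sB A = scal c hc * A := by rw [← e, inv_mul_cancel_right]
  refine suAct_ext fun v => ?_
  rw [map_mul, suAct_mul, suAct_sB (scal (c * c) hcc), suAct_scal, B_smul, B_B, suAct_smul, e', suAct_mul, suAct_scal,
    smul_smul, suAct_mul, suAct_scal, suAct_smul]
  have key : ∀ a : GF4, a ≠ 0 → cj (a * a) * a = a * a := by decide +kernel
  rw [key c hc]

/-! ### The fixed subgroup -/

/-- The prime field inside. -/
def f2 : ZMod 2 →+* GF4 where
  toFun x := if x = 0 then 0 else 1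
  map_one' := by decide
  map_mul' := by decide
  map_zero' := by decide
  map_add' := by decide

theorem cj_f2 : ∀ x : ZMod 2, cj (f2 x) = f2 x := by decide
theorem f2_injective : Function.Injective f2 := by unfold Function.Injective; decide

/-- Coordinates of the symplectic basis. -/
def six6 : Fin 3 ⊕ Fin 3 → Fin 6
  | .inl i => ![0, 2, 4] i
  | .inr i => ![1, 3, 5] i

/-- The symplectic basis as columns. -/
def Es : Matrix (Fin 6) (Fin 3 ⊕ Fin 3) GF4 := Matrix.of fun i k => E (six6 k) i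

/-- Its coordinates as rows. -/
def Fs : Matrix (Fin 3 ⊕ Fin 3) (Fin 6) GF4 := Matrix.of fun k i => cj (E (pr (six6 k)) i)

theorem Es_Fs : Es * Fs = 1 := by decide +kernel
theorem Fs_Es : Fs * Es = 1 := by decide +kernel
theorem Es_gram : Esᵀ * Es.map cj = (Matrix.J (Fin 3) (ZMod 2)).map f2 := by decide +kernel
theorem Fs_gram : Fsᵀ * (Matrix.J (Fin 3) (ZMod 2)).map f2 * Fs.map cj = 1 := by decide +kernel
theorem map_cj_f2 (M : Matrix (Fin 3 ⊕ Fin 3) (Fin 3 ⊕ Fin 3) (ZMod 2)) : (M.map f2).map cj = M.map f2 := by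
  ext i j
  exact cj_f2 _

theorem isUnitary_of_gram {M : Matrix (Fin 6) (Fin 6) GF4} (h : Mᵀ * M.map cj = 1) : IsUnitary 2 M := by
  intro u v
  have hd : ∀ x y : V6, Cfsg.hermForm 6 GF4 2 x y = x ⬝ᵥ (fun i => cj (y i)) := fun x y => by
    simp only [Cfsg.hermForm, dotProduct, cj_eq]
  have h1 : (fun i => cj ((M *ᵥ v) i)) = M.map cj *ᵥ fun i => cj (v i) := funext fun i => RingHom.map_mulVec cj M v i
  rw [hd, hd, h1, Matrix.dotProduct_mulVec, ← Matrix.vecMul_transpose, Matrix.vecMul_vecMul, h, Matrix.vecMul_one]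

theorem gram_of_su (A : SU6) : (mat A)ᵀ * (mat A).map cj = 1 := by
  ext i j
  have h := suAct_herm A (Pi.single i (1 : GF4) : V6) (Pi.single j 1)
  simp only [suAct, Cfsg.hermForm, Matrix.mulVec_single, MulOpposite.op_one, one_smul] at h
  simp only [Matrix.mul_apply, Matrix.transpose_apply, Matrix.map_apply, cj_eq]
  refine h.trans ?_
  simp [Matrix.one_apply, Pi.single_apply, eq_comm]

theorem det_zmod2 {X : Matrix (Fin 3 ⊕ Fin 3) (Fin 3 ⊕ Fin 3) (ZMod 2)}
    (hX : X ∈ Matrix.symplecticGroup (Fin 3) (ZMod 2)) : X.det = 1 := by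
  have h := SymplecticGroup.symplectic_det hX
  revert h
  generalize X.det = d
  revert d
  decide

/-- The symplectic group in the special unitary group. -/
noncomputable def eSp : Matrix.symplecticGroup (Fin 3) (ZMod 2) →* SU6 where
  toFun X := suOfUnitary (Es * (X : Matrix (Fin 3 ⊕ Fin 3) (Fin 3 ⊕ Fin 3) (ZMod 2)).map f2 * Fs)
    (isUnitary_of_gram (by
      set Y := (X : Matrix (Fin 3 ⊕ Fin 3) (Fin 3 ⊕ Fin 3) (ZMod 2))
      have hY : Yᵀ * Matrix.J (Fin 3) (ZMod 2) * Y = Matrix.J (Fin 3) (ZMod 2) := SymplecticGroup.mem_iff'.1 X.2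
      have hY' := congrArg (fun M : Matrix _ _ (ZMod 2) => M.map f2) hY
      simp only [Matrix.map_mul, Matrix.transpose_map] at hY'
      rw [Matrix.transpose_mul, Matrix.transpose_mul, Matrix.map_mul, Matrix.map_mul, map_cj_f2]
      calc Fsᵀ * ((Y.map f2)ᵀ * Esᵀ) * (Es.map cj * Y.map f2 * Fs.map cj)
          = Fsᵀ * ((Y.map f2)ᵀ * (Esᵀ * Es.map cj) * Y.map f2) * Fs.map cj := by simp only [Matrix.mul_assoc]
        _ = 1 := by rw [Es_gram, hY', Fs_gram]))
    (by
      rw [Matrix.det_conj_of_mul_eq_one Es_Fs Fs_Es, ← RingHom.mapMatrix_apply, ← RingHom.map_det, det_zmod2 X.2,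
        map_one])
  map_one' := Subtype.ext (Subtype.ext (by simp [suOfUnitary, Es_Fs]))
  map_mul' X Y := Subtype.ext (Subtype.ext (by
    show Es * ((X : Matrix (Fin 3 ⊕ Fin 3) (Fin 3 ⊕ Fin 3) (ZMod 2)) * (Y : Matrix (Fin 3 ⊕ Fin 3) (Fin 3 ⊕ Fin 3) (ZMod 2))).map f2 * Fs =
      (Es * (X : Matrix (Fin 3 ⊕ Fin 3) (Fin 3 ⊕ Fin 3) (ZMod 2)).map f2 * Fs) * (Es * (Y : Matrix (Fin 3 ⊕ Fin 3) (Fin 3 ⊕ Fin 3) (ZMod 2)).map f2 * Fs)
    rw [Matrix.map_mul]
    calc Es * ((X : Matrix (Fin 3 ⊕ Fin 3) (Fin 3 ⊕ Fin 3) (ZMod 2)).map f2 * (Y : Matrix (Fin 3 ⊕ Fin 3) (Fin 3 ⊕ Fin 3) (ZMod 2)).map f2) * Fs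
        = Es * ((X : Matrix (Fin 3 ⊕ Fin 3) (Fin 3 ⊕ Fin 3) (ZMod 2)).map f2 * ((Fs * Es) * (Y : Matrix (Fin 3 ⊕ Fin 3) (Fin 3 ⊕ Fin 3) (ZMod 2)).map f2)) * Fs := by
          rw [Fs_Es, Matrix.one_mul]
      _ = _ := by simp only [Matrix.mul_assoc]))

theorem mat_eSp (X : Matrix.symplecticGroup (Fin 3) (ZMod 2)) :
    mat (eSp X) = Es * (X : Matrix (Fin 3 ⊕ Fin 3) (Fin 3 ⊕ Fin 3) (ZMod 2)).map f2 * Fs := rfl

theorem eSp_injective : Function.Injective eSp := by
  intro X Y h
  have h1 := congrArg (fun g => Fs * mat g * Es) h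
  simp only [mat_eSp] at h1
  have key : ∀ M : Matrix (Fin 3 ⊕ Fin 3) (Fin 3 ⊕ Fin 3) GF4, Fs * (Es * M * Fs) * Es = M := fun M => by
    calc Fs * (Es * M * Fs) * Es = (Fs * Es) * M * (Fs * Es) := by simp only [Matrix.mul_assoc]
      _ = M := by rw [Fs_Es, Matrix.one_mul, Matrix.mul_one]
  rw [key, key] at h1
  exact Subtype.ext (Matrix.ext fun i j => f2_injective (congrFun (congrFun h1 i) j))

/-- Fixed elements come from the symplectic group. -/
theorem exists_eSp {A : SU6} (h : sB A = A) : ∃ X, eSp X = A := by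
  have hfix : ∀ k l, cj ((Fs * mat A * Es) k l) = (Fs * mat A * Es) k l := by
    intro k l
    have e : (Fs * mat A * Es) k l = hf (suAct A (E (six6 l))) (E (pr (six6 k))) := by
      rw [Matrix.mul_assoc, Matrix.mul_apply]
      simp only [ThreeTransSU.hf, Cfsg.hermForm, Fs, Matrix.of_apply, cj_eq, suAct, Matrix.mulVec, dotProduct,
        Matrix.mul_apply, Es, mul_comm]
    have e2 : suAct A (E (six6 l)) = B (suAct A (E (six6 l))) := by
      conv_lhs => rw [← h, suAct_sB, B_E]
    rw [e]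
    conv_rhs => rw [e2, ← B_E (pr (six6 k)), hf_B]
  have hmem : ∀ k l, ∃ x : ZMod 2, f2 x = (Fs * mat A * Es) k l := fun k l => by
    rcases fixed_cases _ (hfix k l) with e | e
    · exact ⟨0, e.symm⟩
    · exact ⟨1, e.symm⟩
  choose x hx using hmem
  have hX : (Matrix.of x).map f2 = Fs * mat A * Es := Matrix.ext fun k l => hx k l
  have hsym : (Matrix.of x) ∈ Matrix.symplecticGroup (Fin 3) (ZMod 2) := by
    rw [SymplecticGroup.mem_iff']
    refine Matrix.map_injective f2_injective ?_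
    simp only [Matrix.map_mul, Matrix.transpose_map]
    have hself := map_cj_f2 (Matrix.of x)
    rw [hX, Matrix.map_mul, Matrix.map_mul] at hself
    rw [hX, ← Es_gram]
    conv_lhs => arg 2; rw [← hself]
    calc (Fs * mat A * Es)ᵀ * (Esᵀ * Es.map cj) * (Fs.map cj * (mat A).map cj * Es.map cj)
        = (Es * Fs * mat A * Es)ᵀ * (Es * Fs).map cj * (mat A).map cj * Es.map cj := by
          simp only [Matrix.transpose_mul, Matrix.map_mul, Matrix.mul_assoc]
      _ = Esᵀ * ((mat A)ᵀ * (mat A).map cj) * Es.map cj := by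
          rw [Es_Fs, Matrix.one_mul, Matrix.transpose_mul, Matrix.map_one _ (map_zero _) (map_one _), Matrix.mul_one]
          simp only [Matrix.mul_assoc]
      _ = Esᵀ * Es.map cj := by rw [gram_of_su, Matrix.mul_one]
  refine ⟨⟨_, hsym⟩, Subtype.ext (Subtype.ext ?_)⟩
  show Es * (Matrix.of x).map f2 * Fs = mat A
  rw [hX]
  calc Es * (Fs * mat A * Es) * Fs = (Es * Fs) * mat A * (Es * Fs) := by simp only [Matrix.mul_assoc]
    _ = mat A := by rw [Es_Fs, Matrix.one_mul, Matrix.mul_one]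

end Cfsg.Agent.FischerM22.Outer
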