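/-
An outer involution of the presented Fischer group Fi22 (helper23).

Main results (namespace `Cfsg.Agent.FischerM22.Outer`):
* `sPerm`, `s`: the involution on the transpositions and on the group;
* `Acts`: automorphisms as permutations of the transpositions;
* `member_phi`: the members of the centraliser of the base transposition are transvections;
* `phi_s`, `pperm_sB`: the involution on that centraliser is the semilinear map `B`.
-/
import Cfsg.Agent.Lib.Fi22Aut.Outer
import Cfsg.Agent.Lib.FischerM22.Outer.Descent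
import Cfsg.Agent.Lib.FischerM22.Outer.Data

set_option autoImplicit false
set_option maxRecDepth 100000

namespace Cfsg.Agent.FischerM22.Outer

open Cfsg.Agent.CosetEnum Cfsg.Agent.CosetEnum.Data
open Cfsg.Agent.Fi22U62 (rho pt0 z0 rho_injective rho_ev lane_trace Hs mem_Hs_iff lab sec pperm phi V6 tv)
open Cfsg.Agent.Fi22Aut (model okw V P pt ctx gpt letter_ok d_gpt model_rho model_d0 eq_of_trace rho_word)
open Cfsg.Agent.Unitary (GF4 suAct)

/-- The group. -/
abbrev G22 : Type := fi22Setup.G

/-- The number of transpositions. -/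
noncomputable abbrev N22 : ℕ := fi22h.n

instance finite_G22 : Finite G22 := Fi22U62.fi22_finite

/-- The involution on numbers. -/
noncomputable def piN (i : ℕ) : ℕ := lane 13 piTab i

/-- The involution `B` on point numbers. -/
noncomputable def bjN (j : ℕ) : ℕ := Fi22U62.pid (B (Fi22U62.pt j))

theorem sWords_ok : (sWords.all okw && Nat.beq sWords.length 9) = true := by decide +kernel

theorem pi_check : ((List.range 3510).all fun i => force (piN i) fun x => Nat.blt x 3510 && Nat.beq (piN x) i) = true := by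
  decide +kernel

theorem pi_zero : Nat.beq (piN 0) 0 = true := by decide +kernel

theorem hom_check : ((List.range 9).all fun a => force (fi22h.trace [a]) fun T => force (V (sWords.getD a [])) fun U =>
    (List.range 3510).all fun i => Nat.beq (piN (lane 13 T i)) (lane 13 U (piN i))) = true := by
  decide +kernel

theorem lab_check : ((List.range 3510).all fun i => force (lab i) fun l =>
    Nat.beq l 0 || (Nat.ble l 693 && Nat.beq (sec (l - 1)) i)) = true := by
  decide +kernel

theorem block_check : ((List.range 3510).all fun i => force (lab i) fun l =>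
    Nat.beq l 0 || Nat.beq (lab (piN i)) (bjN (l - 1) + 1)) = true := by
  decide +kernel

theorem seed_member : (((Fi22Aut.letterWords.getD 2 []).all fun a => Nat.blt a 9) &&
    (((Fi22U62.gw 1).all fun a => Nat.blt a 9) &&
      (Nat.beq (fi22h.trace (Fi22U62.gw 1)) (fi22h.trace [2]) &&
        Nat.beq (P (Fi22Aut.letterWords.getD 2 [])) (sec Fi22U62.seed)))) = true := by
  decide +kernel

theorem piN_lt {i : ℕ} (h : i < 3510) : piN i < 3510 ∧ piN (piN i) = i := by
  have := List.all_eq_true.mp pi_check i (List.mem_range.mpr h)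
  simp only [force_eq, Bool.and_eq_true, Nat.blt_eq] at this
  exact ⟨this.1, Nat.eq_of_beq_eq_true this.2⟩

/-- The involution on the transpositions. -/
noncomputable def sPerm : Equiv.Perm (Fin N22) where
  toFun i := ⟨piN i, (piN_lt i.2).1⟩
  invFun i := ⟨piN i, (piN_lt i.2).1⟩
  left_inv i := Fin.ext (piN_lt i.2).2
  right_inv i := Fin.ext (piN_lt i.2).2

theorem sPerm_val (i : Fin N22) : (sPerm i : ℕ) = piN i := rfl

theorem sPerm_sPerm (i : Fin N22) : sPerm (sPerm i) = i := sPerm.left_inv i

theorem sPerm_inv : sPerm⁻¹ = sPerm := Equiv.ext fun _ => rfl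

theorem sPerm_pt0 : sPerm pt0 = pt0 := Fin.ext (Nat.eq_of_beq_eq_true pi_zero)

theorem sWord_ok {a : ℕ} (ha : a < 9) : okw (sWords.getD a []) = true := by
  have h := sWords_ok
  simp only [Bool.and_eq_true, List.all_eq_true] at h
  have hlen : sWords.length = 9 := Nat.eq_of_beq_eq_true h.2
  rw [List.getD_eq_getElem _ _ (hlen ▸ ha)]
  exact h.1 _ (List.getElem_mem _)

theorem conj_gen {a : ℕ} (ha : a < 9) :
    sPerm * rho (fi22Setup.el a) * sPerm⁻¹ = rho (model.d (pt (sWords.getD a []))) := by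
  refine Equiv.ext fun i => ?_
  obtain ⟨j, rfl⟩ := sPerm.surjective i
  rw [Equiv.Perm.mul_apply, Equiv.Perm.mul_apply, sPerm_inv, sPerm_sPerm]
  have h := List.all_eq_true.mp hom_check a (List.mem_range.mpr ha)
  simp only [force_eq, List.all_eq_true, List.mem_range] at h
  have hj := Nat.eq_of_beq_eq_true (h j j.2)
  have hlt : ∀ b ∈ [a], b < fi22h.k := by simpa using (show a < fi22h.k from ha)
  have e1 : (rho (fi22Setup.el a) j : ℕ) = lane 13 (fi22h.trace [a]) j := by
    rw [← rho_word hlt j]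
    simp [ev]
  have e2 := ctx.hV (sWords.getD a []) (sWord_ok ha) (sPerm j)
  rw [model_rho] at e2
  apply Fin.ext
  rw [sPerm_val, e1, hj, ← sPerm_val]
  exact e2

theorem conj_mem_range (g : G22) : sPerm * rho g * sPerm⁻¹ ∈ (rho : G22 →* Equiv.Perm (Fin N22)).range := by
  have htop : Subgroup.closure ((fun a => model.d (gpt a)) '' {a | a < 9}) = ⊤ := Fi22Aut.gen_top
  have hg : g ∈ Subgroup.closure ((fun a => model.d (gpt a)) '' {a | a < 9}) := htop ▸ Subgroup.mem_top g
  induction hg using Subgroup.closure_induction with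
  | mem x hx =>
    obtain ⟨a, ha, rfl⟩ := hx
    show sPerm * rho (model.d (gpt a)) * sPerm⁻¹ ∈ _
    rw [d_gpt ha, conj_gen ha]
    exact ⟨_, rfl⟩
  | one => rw [map_one, mul_one, mul_inv_cancel]; exact one_mem _
  | mul x y _ _ hx hy =>
    rw [map_mul, show sPerm * (rho x * rho y) * sPerm⁻¹ = sPerm * rho x * sPerm⁻¹ * (sPerm * rho y * sPerm⁻¹) by group]
    exact mul_mem hx hy
  | inv x _ hx =>
    rw [map_inv, show sPerm * (rho x)⁻¹ * sPerm⁻¹ = (sPerm * rho x * sPerm⁻¹)⁻¹ by group]
    exact inv_mem hx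

/-- The image of an element under the involution. -/
noncomputable def sFun (g : G22) : G22 := (conj_mem_range g).choose

theorem rho_sFun (g : G22) : rho (sFun g) = sPerm * rho g * sPerm⁻¹ := (conj_mem_range g).choose_spec

theorem sFun_sFun (g : G22) : sFun (sFun g) = g := rho_injective (by
  rw [rho_sFun, rho_sFun, sPerm_inv]
  refine Equiv.ext fun i => ?_
  simp only [Equiv.Perm.mul_apply, sPerm_sPerm])

/-- The outer involution. -/
noncomputable def s : MulAut G22 where
  toFun := sFun
  invFun := sFun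
  left_inv := sFun_sFun
  right_inv := sFun_sFun
  map_mul' g h := rho_injective (by rw [map_mul, rho_sFun, rho_sFun, rho_sFun, map_mul]; group)

theorem rho_s (g : G22) : rho (s g) = sPerm * rho g * sPerm⁻¹ := rho_sFun g

theorem s_s (g : G22) : s (s g) = g := sFun_sFun g

theorem s_mul_s : s * s = 1 := MulEquiv.ext fun g => s_s g

/-! ### Automorphisms on the transpositions -/

/-- An automorphism acting on the transpositions by a permutation. -/
def Acts (t : MulAut G22) (τ : Equiv.Perm (Fin N22)) : Prop := ∀ i, t (model.d i) = model.d (τ i)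

theorem conj_d (g : G22) (i : Fin N22) : g * model.d i * g⁻¹ = model.d (rho g i) := (model.conj g i).symm

theorem acts_conj (g : G22) : Acts (MulAut.conj g) (rho g) := fun i => by rw [MulAut.conj_apply, conj_d]

theorem Acts.mul {t u : MulAut G22} {τ υ : Equiv.Perm (Fin N22)} (h : Acts t τ) (h' : Acts u υ) :
    Acts (t * u) (τ * υ) := fun i => by
  rw [MulAut.mul_apply, h', h, Equiv.Perm.mul_apply]

theorem Acts.unique {t : MulAut G22} {τ υ : Equiv.Perm (Fin N22)} (h : Acts t τ) (h' : Acts t υ) : τ = υ :=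
  Equiv.ext fun i => model.inj ((h i).symm.trans (h' i))

theorem Acts.ext {t u : MulAut G22} {τ : Equiv.Perm (Fin N22)} (h : Acts t τ) (h' : Acts u τ) : t = u := by
  have e : t.toMonoidHom = u.toMonoidHom := by
    refine MonoidHom.eq_of_eqOn_dense Fi22Aut.gen_top ?_
    rintro _ ⟨a, -, rfl⟩
    exact (h _).trans (h' _).symm
  exact MulEquiv.ext fun x => DFunLike.congr_fun e x

theorem acts_one : Acts 1 1 := fun _ => rfl

theorem Acts.inv {t : MulAut G22} {τ : Equiv.Perm (Fin N22)} (h : Acts t τ) : Acts t⁻¹ τ⁻¹ := fun i => by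
  apply t.injective
  rw [h, MulAut.apply_inv_self]
  exact congrArg model.d (τ.apply_symm_apply i).symm

theorem exists_acts (t : MulAut G22) : ∃ τ, Acts t τ := by
  choose f hf using fun i => Fi22Aut.apply_mem_range t i
  have hinj : Function.Injective f := fun i j e => model.inj (t.injective (by rw [← hf i, ← hf j, e]))
  exact ⟨Equiv.ofBijective f (Finite.injective_iff_bijective.mp hinj), fun i => (hf i).symm⟩

theorem acts_s : Acts s sPerm := fun i => by
  obtain ⟨g, rfl⟩ := model.trans pt0 i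
  have h0 : s (model.d pt0) = model.d pt0 := by
    have h1 : rho (s (model.d pt0)) = rho (model.d pt0) := by
      have e := conj_gen (a := 0) (by norm_num)
      have hw : sWords.getD 0 [] = [] := by decide +kernel
      rw [hw, Fi22Aut.pt_nil, ← d_gpt (by norm_num), show gpt 0 = pt0 from by
        rw [gpt, show Fi22Aut.letterWords.getD 0 [] = [] by decide +kernel, Fi22Aut.pt_nil]] at e
      rw [rho_s, e]
    exact rho_injective h1
  rw [model.conj, map_mul, map_mul, map_inv, h0, ← model.conj]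
  congr 1
  rw [model_rho, rho_s, Equiv.Perm.mul_apply, Equiv.Perm.mul_apply, sPerm_inv, sPerm_pt0]

/-- An element is fixed by an automorphism exactly when their permutations commute. -/
theorem fixed_iff {t : MulAut G22} {τ : Equiv.Perm (Fin N22)} (h : Acts t τ) (g : G22) :
    t g = g ↔ τ * rho g = rho g * τ := by
  have e : t * MulAut.conj g * t⁻¹ = MulAut.conj (t g) := MulEquiv.ext fun x => by
    simp [MulAut.mul_apply, map_mul, map_inv]
  have ha := (h.mul (acts_conj g)).mul h.inv
  rw [e] at ha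
  have hu := ha.unique (acts_conj (t g))
  constructor
  · intro hg
    rw [hg] at hu
    conv_rhs => rw [← hu]
    group
  · intro hc
    apply rho_injective
    rw [← hu, hc, mul_inv_cancel_right]

/-! ### Members and transvections -/

theorem sec_lt (j : Fin 693) : sec j < 3510 := (Fi22U62.sec_spec j).1

/-- The transposition of a point of the centraliser. -/
noncomputable def mem693 (j : Fin 693) : Fin N22 := ⟨sec j, sec_lt j⟩

theorem lab_mem693 (j : Fin 693) : lab (mem693 j) = (j : ℕ) + 1 := (Fi22U62.sec_spec j).2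

theorem eq_mem693 {i : Fin N22} {j : Fin 693} (h : lab i = (j : ℕ) + 1) : i = mem693 j := by
  have hc := List.all_eq_true.mp lab_check i (List.mem_range.mpr i.2)
  simp only [force_eq, Bool.or_eq_true, Bool.and_eq_true] at hc
  rcases hc with hc | ⟨-, hc⟩
  · have := Nat.eq_of_beq_eq_true hc
    omega
  · have := Nat.eq_of_beq_eq_true hc
    rw [h, Nat.add_sub_cancel] at this
    exact Fin.ext this.symm

theorem exists_mem693 {i : Fin N22} (h : lab i ≠ 0) : ∃ j, i = mem693 j := by
  have hc := List.all_eq_true.mp lab_check i (List.mem_range.mpr i.2)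
  simp only [force_eq, Bool.or_eq_true, Bool.and_eq_true, Nat.ble_eq] at hc
  rcases hc with hc | ⟨hle, -⟩
  · exact absurd (Nat.eq_of_beq_eq_true hc) h
  · exact ⟨⟨lab i - 1, by omega⟩, eq_mem693 (by simp; omega)⟩

theorem phi_spec (g : Hs) (j : Fin 693) : rho (g : G22) (mem693 j) = mem693 (phi g j) :=
  eq_mem693 ((Fi22U62.exists_block g.2).choose_spec.2 _ j (lab_mem693 j))

theorem pperm_tv_pid {v : V6} (hv : Fi22U62.Iso v) :
    pperm (tv v hv) = pperm (tv _ (Fi22U62.iso_pt ⟨Fi22U62.pid v, hv.exists_smul.1⟩)) := by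
  rw [← Fi22U62.tv_pid hv]

theorem member_steps : ∀ (l : List (ℕ × ℕ × ℕ)) (known : List ℕ),
    (∀ n ∈ known, ∀ hn : n < 693, ∃ h : Hs, (h : G22) = model.d (mem693 ⟨n, hn⟩) ∧
      phi h = pperm (tv _ (Fi22U62.iso_pt ⟨n, hn⟩))) →
    Fi22U62.stepsOK known l = true → ∀ j : Fin 693, ∃ h : Hs, (h : G22) = model.d (mem693 j) ∧
      phi h = pperm (tv _ (Fi22U62.iso_pt j))
  | [], known, hk, h, j => by
    simp only [Fi22U62.stepsOK, List.all_eq_true, List.contains_iff_mem, List.mem_range] at h
    exact hk j (h j j.2) j.2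
  | (new, g, old) :: l, known, hk, h, j => by
    simp only [Fi22U62.stepsOK, Bool.and_eq_true, Nat.blt_eq, List.contains_iff_mem, beq_iff] at h
    obtain ⟨hg, hg0, ho, hkn, hnew, hrec⟩ := h
    refine member_steps l (new :: known) ?_ hrec j
    intro m hm hm'
    rcases List.mem_cons.mp hm with rfl | hm
    · obtain ⟨x, hx, hxp⟩ := hk _ hkn ho
      obtain ⟨g, rfl⟩ : ∃ g', g = g' + 1 := ⟨g - 1, by omega⟩
      have hg' : g < 8 := by omega
      let y : Hs := ⟨_, Fi22U62.hgen_mem hg⟩
      have hy : phi y = Fi22U62.gperm (g + 1) := Fi22U62.phi_gen hg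
      have e2 : (⟨m, hm'⟩ : Fin 693) = Fi22U62.gperm (g + 1) ⟨old, ho⟩ :=
        Fin.ext (by rw [Fi22U62.gperm_apply hg]; exact hnew.symm)
      have e1 : Fi22U62.gperm (g + 1) =
          pperm (tv _ (Fi22U62.iso_pt ⟨Fi22U62.pid (Fi22U62.gvec (g + 1)),
            (Fi22U62.iso_gvec ⟨g, hg'⟩).exists_smul.1⟩)) := by
        rw [Fi22U62.gperm, dif_pos hg', pperm_tv_pid]
      refine ⟨y * x * y⁻¹, ?_, ?_⟩
      · rw [Subgroup.coe_mul, Subgroup.coe_mul, Subgroup.coe_inv, hx, conj_d, phi_spec, hy, e2]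
      · rw [map_mul, map_mul, map_inv, hxp, hy, e2, e1, Fi22U62.pperm_tv_conj]
    · exact hk m hm hm'

/-- The members of the centraliser act as transvections. -/
theorem member_phi (j : Fin 693) : ∃ h : Hs, (h : G22) = model.d (mem693 j) ∧
    phi h = pperm (tv _ (Fi22U62.iso_pt j)) := by
  refine member_steps Fi22U62.steps [Fi22U62.seed] (fun n hn hn' => ?_) Fi22U62.steps_check j
  obtain rfl := List.mem_singleton.mp hn
  refine ⟨⟨_, Fi22U62.hgen_mem (show 1 < 9 by norm_num)⟩, ?_, ?_⟩
  · have h := seed_member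
    simp only [Bool.and_eq_true, List.all_eq_true, Nat.blt_eq] at h
    obtain ⟨-, hw1, htr, hP⟩ := h
    have e : mem693 ⟨Fi22U62.seed, hn'⟩ = gpt 2 := Fin.ext (by
      rw [gpt, ← Fi22Aut.P_eq (letter_ok (by norm_num))]
      exact (Nat.eq_of_beq_eq_true hP).symm)
    have hw1' : ∀ a ∈ Fi22U62.gw 1, a < fi22h.k := hw1
    have h2' : ∀ a ∈ ([2] : List ℕ), a < fi22h.k := by
      intro a ha
      rw [List.mem_singleton.mp ha]
      exact (show (2 : ℕ) < 9 by norm_num)
    have e3 := eq_of_trace hw1' h2' (Nat.eq_of_beq_eq_true htr)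
    rw [e, d_gpt (by norm_num)]
    apply rho_injective
    show rho (Fi22U62.hgen 1) = _
    rw [Fi22U62.rho_hgen (by norm_num), ← rho_ev _ hw1', e3]
    simp [ev]
  · rw [Fi22U62.phi_gen (by norm_num), Fi22U62.gperm, dif_pos (by norm_num : 0 < 8), pperm_tv_pid]
    have hs : (⟨Fi22U62.pid (Fi22U62.gvec 1), (Fi22U62.iso_gvec 0).exists_smul.1⟩ : Fin 693) = ⟨Fi22U62.seed, hn'⟩ :=
      Fin.ext Fi22U62.seed_spec.2
    exact hs ▸ rfl

/-! ### The semilinear map on the points -/

theorem iso_B {v : V6} (hv : Fi22U62.Iso v) : Fi22U62.Iso (B v) := by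
  refine ⟨fun h => hv.1 ?_, ?_⟩
  · rw [← B_B v, h, B_zero]
  · show ThreeTransSU.hf (B v) (B v) = 0
    rw [hf_B, show ThreeTransSU.hf v v = 0 from hv.2, map_zero]

theorem pid_B {v : V6} (hv : Fi22U62.Iso v) : Fi22U62.pid (B v) = bjN (Fi22U62.pid v) := by
  obtain ⟨hlt, c, hc, e⟩ := hv.exists_smul
  conv_lhs => rw [e, B_smul]
  refine (iso_B (Fi22U62.iso_pt ⟨_, hlt⟩)).pid_smul fun h => hc ?_
  rw [← cj_cj c, h, map_zero]

theorem bjN_lt (j : Fin 693) : bjN j < 693 := (iso_B (Fi22U62.iso_pt j)).exists_smul.1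

/-- The semilinear map on the points. -/
noncomputable def beta : Equiv.Perm (Fin 693) :=
  Function.Involutive.toPerm (fun j => ⟨bjN j, bjN_lt j⟩) fun j => Fin.ext (by
    show bjN (Fi22U62.pid (B (Fi22U62.pt j))) = j
    rw [← pid_B (iso_B (Fi22U62.iso_pt j)), B_B, Fi22U62.pid_pt])

theorem beta_val (j : Fin 693) : (beta j : ℕ) = bjN j := rfl

theorem sPerm_mem693 (j : Fin 693) : sPerm (mem693 j) = mem693 (beta j) := by
  refine eq_mem693 ?_
  have h := List.all_eq_true.mp block_check (mem693 j : Fin N22) (List.mem_range.mpr (mem693 j).2)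
  simp only [force_eq, Bool.or_eq_true] at h
  rcases h with h | h
  · have := Nat.eq_of_beq_eq_true h
    rw [lab_mem693] at this
    omega
  · rw [sPerm_val, Nat.eq_of_beq_eq_true h, lab_mem693, Nat.add_sub_cancel]
    rfl

theorem pperm_sB (A : SU6) : pperm (sB A) = beta * pperm A * beta := Equiv.ext fun j => Fin.ext (by
  have hj := iso_B (Fi22U62.iso_pt j)
  obtain ⟨hlt, c, hc, e⟩ := hj.exists_smul
  rw [Fi22U62.pperm_apply, suAct_sB]
  show _ = bjN (pperm A (beta j))
  rw [Fi22U62.pperm_apply, pid_B (hj.suAct A)]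
  congr 1
  conv_lhs => rw [e, Unitary.suAct_smul, ((Fi22U62.iso_pt ⟨_, hlt⟩).suAct A).pid_smul hc]
  rfl)

theorem s_mem_Hs {g : G22} (h : g ∈ Hs) : s g ∈ Hs := by
  rw [mem_Hs_iff, rho_s, Equiv.Perm.mul_apply, Equiv.Perm.mul_apply, sPerm_inv, sPerm_pt0, (mem_Hs_iff g).mp h,
    sPerm_pt0]

theorem phi_s (g : Hs) : phi ⟨s g, s_mem_Hs g.2⟩ = beta * phi g * beta := Equiv.ext fun j => by
  have h := phi_spec ⟨s g, s_mem_Hs g.2⟩ j
  rw [rho_s, Equiv.Perm.mul_apply, Equiv.Perm.mul_apply, sPerm_inv, sPerm_mem693, phi_spec, sPerm_mem693] at h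
  have := congrArg (fun i : Fin N22 => lab i) h
  simp only [lab_mem693] at this
  exact Fin.ext (Nat.succ.inj this).symm

end Cfsg.Agent.FischerM22.Outer
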