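/-
Orthogonal groups over GF(2) as permutation groups on numbered nonsingular vectors (helper23).

Main results (namespace `Cfsg.Agent.FischerM22.Outer`):
* `Code`, `Code.exists_rep`: the isometry group is the group generated by the given permutations.
-/
import Cfsg.Agent.Lib.Orth.Models

set_option autoImplicit false

namespace Cfsg.Agent.FischerM22.Outer

open Cfsg.Agent.Orth
open QuadraticMap (polar)

variable {ι : Type} [Fintype ι] [DecidableEq ι] {dim : ℕ}

/-- A bit as an element of GF(2). -/
def bz (b : Bool) : ZMod 2 := cond b 1 0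

theorem bz_xor : ∀ a b : Bool, bz (xor a b) = bz a + bz b := by decide

theorem bz_injective : ∀ a b : Bool, bz a = bz b → a = b := by decide

/-- The vector of a number. -/
def decV (e : ι ≃ Fin dim) (c : ℕ) : ι → ZMod 2 := fun i => bz (c.testBit (e i))

theorem decV_xor (e : ι ≃ Fin dim) (a b : ℕ) : decV e (a ^^^ b) = decV e a + decV e b :=
  funext fun i => by simp [decV, Nat.testBit_xor, bz_xor]

theorem decV_injective (e : ι ≃ Fin dim) {a b : ℕ} (ha : a < 2 ^ dim) (hb : b < 2 ^ dim)
    (h : decV e a = decV e b) : a = b := by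
  apply Nat.eq_of_testBit_eq
  intro k
  by_cases hk : k < dim
  · have := bz_injective _ _ (congrFun h (e.symm ⟨k, hk⟩))
    simpa using this
  · have hp : 2 ^ dim ≤ 2 ^ k := Nat.pow_le_pow_right (by norm_num) (by omega)
    rw [Nat.testBit_lt_two_pow (by omega), Nat.testBit_lt_two_pow (by omega)]

theorem decV_surjective (e : ι ≃ Fin dim) (v : ι → ZMod 2) : ∃ c, c < 2 ^ dim ∧ decV e c = v := by
  have hb : Function.Bijective fun c : Fin (2 ^ dim) => decV e c := by
    rw [Fintype.bijective_iff_injective_and_card]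
    refine ⟨fun a b h => Fin.ext (decV_injective e a.2 b.2 h), ?_⟩
    simp [Fintype.card_congr e]
  obtain ⟨c, hc⟩ := hb.2 v
  exact ⟨c, c.2, hc⟩

/-- The polar form on numbers. -/
def polB (qb : ℕ → Bool) (a b : ℕ) : Bool := xor (qb (a ^^^ b)) (xor (qb a) (qb b))

/-- Numbered nonsingular vectors with the permutations of their reflections. -/
structure Code (Q : QuadraticForm (ZMod 2) (ι → ZMod 2)) (e : ι ≃ Fin dim) (qb : ℕ → Bool) (n : ℕ)
    (vec : Fin n → ℕ) (π : Fin n → Equiv.Perm (Fin n)) : Prop where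
  hQ : ∀ c, Q (decV e c) = bz (qb c)
  good : Good Q
  lt : ∀ a, vec a < 2 ^ dim
  inj : Function.Injective vec
  one : ∀ a, qb (vec a) = true
  surj : ∀ c, c < 2 ^ dim → qb c = true → ∃ a, vec a = c
  gen : ∀ k, k < dim → ∃ a b, vec a ^^^ vec b = 2 ^ k
  act : ∀ a q, vec (π a q) = if polB qb (vec a) (vec q) then vec q ^^^ vec a else vec q

namespace Code

variable {Q : QuadraticForm (ZMod 2) (ι → ZMod 2)} {e : ι ≃ Fin dim} {qb : ℕ → Bool} {n : ℕ}
  {vec : Fin n → ℕ} {π : Fin n → Equiv.Perm (Fin n)}

theorem vInj (C : Code Q e qb n vec π) : Function.Injective fun a => decV e (vec a) :=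
  fun a b h => C.inj (decV_injective e (C.lt a) (C.lt b) h)

theorem exists_image (C : Code Q e qb n vec π) (g : IsoGrp Q) (a : Fin n) :
    ∃ b, decV e (vec b) = ap g (decV e (vec a)) := by
  obtain ⟨c, hc, hv⟩ := decV_surjective e (ap g (decV e (vec a)))
  have h1 : bz (qb c) = 1 := by rw [← C.hQ, hv, Q_ap, C.hQ, C.one]; rfl
  have h2 : qb c = true := bz_injective _ _ h1
  obtain ⟨b, rfl⟩ := C.surj c hc h2
  exact ⟨b, hv⟩

/-- The permutation of an isometry. -/
noncomputable def img (C : Code Q e qb n vec π) (g : IsoGrp Q) (a : Fin n) : Fin n := (C.exists_image g a).choose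

theorem img_spec (C : Code Q e qb n vec π) (g : IsoGrp Q) (a : Fin n) :
    decV e (vec (C.img g a)) = ap g (decV e (vec a)) := (C.exists_image g a).choose_spec

/-- The representation. -/
noncomputable def rep (C : Code Q e qb n vec π) : IsoGrp Q →* Equiv.Perm (Fin n) where
  toFun g :=
    { toFun := C.img g
      invFun := C.img g⁻¹
      left_inv := fun a => C.vInj (by simp only [C.img_spec, ap_inv_ap])
      right_inv := fun a => C.vInj (by simp only [C.img_spec, ap_ap_inv]) }
  map_one' := Equiv.ext fun a => C.vInj (by simp [C.img_spec])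
  map_mul' g h := Equiv.ext fun a => C.vInj (by simp [C.img_spec])

theorem rep_apply (C : Code Q e qb n vec π) (g : IsoGrp Q) (a : Fin n) :
    decV e (vec (C.rep g a)) = ap g (decV e (vec a)) := C.img_spec g a

theorem rep_injective (C : Code Q e qb n vec π) : Function.Injective C.rep := by
  rw [injective_iff_map_eq_one]
  intro g hg
  have hfix : ∀ a, ap g (decV e (vec a)) = decV e (vec a) := fun a => by rw [← C.rep_apply, hg]; rfl
  refine Subtype.ext (Units.ext (Matrix.ext_of_mulVec_single fun i => ?_))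
  obtain ⟨a, b, hab⟩ := C.gen (e i) (e i).2
  have hs : decV e (2 ^ (e i : ℕ)) = Pi.single i 1 := funext fun j => by
    by_cases h : j = i
    · subst h; simp [decV, bz]
    · have hne : ((e i : ℕ)) ≠ (e j : ℕ) := fun h' => h (e.injective (Fin.ext h'.symm))
      simp [decV, bz, h, Nat.testBit_two_pow_of_ne hne]
  show ap g (Pi.single i 1) = ap (1 : IsoGrp Q) (Pi.single i 1)
  rw [← hs, ← hab, decV_xor, map_add, hfix, hfix, ap_one]

theorem polar_dec (C : Code Q e qb n vec π) (a b : ℕ) : polar ⇑Q (decV e a) (decV e b) = bz (polB qb a b) := by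
  have key : ∀ x y z : ZMod 2, x - y - z = x + (y + z) := by decide
  simp only [polar, ← decV_xor, C.hQ, polB, bz_xor]
  exact key _ _ _

theorem refl_ap' (v x : ι → ZMod 2) : ap (refl Q v) x = x - ((Q v)⁻¹ * polar ⇑Q v x) • v := refl_ap Q v x

theorem rep_refl (C : Code Q e qb n vec π) (a : Fin n) : C.rep (refl Q (decV e (vec a))) = π a := by
  refine Equiv.ext fun q => C.vInj ?_
  show decV e (vec _) = decV e (vec (π a q))
  rw [C.rep_apply, refl_ap', C.act, C.hQ, C.one, C.polar_dec, show bz true = 1 from rfl, inv_one, one_mul]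
  cases polB qb (vec a) (vec q)
  · simp [bz]
  · have key : ∀ x y : ZMod 2, x - y = x + y := by decide
    simp only [bz, cond_true, one_smul, if_true, decV_xor]
    funext i
    exact key _ _

/-- The isometry group as the group generated by the permutations. -/
theorem exists_rep (C : Code Q e qb n vec π) :
    ∃ ρ : IsoGrp Q →* Equiv.Perm (Fin n), Function.Injective ρ ∧ ρ.range = Subgroup.closure (Set.range π) := by
  refine ⟨C.rep, C.rep_injective, ?_⟩
  have hrefl : ∀ v : ι → ZMod 2, refl Q v = 1 ∨ ∃ a, refl Q v = refl Q (decV e (vec a)) := fun v => by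
    obtain ⟨c, hc, rfl⟩ := decV_surjective e v
    by_cases hq : qb c = true
    · obtain ⟨a, rfl⟩ := C.surj c hc hq
      exact Or.inr ⟨a, rfl⟩
    · refine Or.inl (ext_ap fun x => ?_)
      rw [refl_ap', C.hQ, Bool.not_eq_true _ |>.mp hq]
      simp [bz]
  refine le_antisymm ?_ ((Subgroup.closure_le _).mpr ?_)
  · rw [MonoidHom.range_eq_map, ← Good.gen C.good, Subgroup.map_le_iff_le_comap, reflGen, Subgroup.closure_le]
    rintro _ ⟨v, rfl⟩
    show C.rep (refl Q v) ∈ Subgroup.closure (Set.range π)
    rcases hrefl v with h | ⟨a, h⟩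
    · rw [h, map_one]; exact one_mem _
    · rw [h, C.rep_refl]; exact Subgroup.subset_closure ⟨a, rfl⟩
  · rintro _ ⟨a, rfl⟩
    exact ⟨_, C.rep_refl a⟩

end Code

end Cfsg.Agent.FischerM22.Outer
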