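/-
Certificates for the 360 transpositions fixed by the outer involution of Fi22 (helper23).

* `fix_check`, `gens_check`, `script_check`, `cross_check`, `tree_check`, `swap_check`, `vec_check`, `code_check`,
  `witness_check`
-/
import Cfsg.Agent.Lib.FischerM22.Outer.Model
import Cfsg.Agent.Lib.FischerM22.Outer.OrthCode

set_option autoImplicit false
set_option maxRecDepth 100000

namespace Cfsg.Agent.FischerM22.Outer

open Cfsg.Agent.CosetEnum Cfsg.Agent.CosetEnum.Data
open Cfsg.Agent.Fi22Aut (okw V P)

/-- A table with the given values at the given lanes. -/
noncomputable def scatter : List ℕ → List ℕ → ℕ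
  | p :: ps, v :: vs => force (scatter ps vs) fun r => Nat.lor r (Nat.shiftLeft v (Nat.mul p 13))
  | _, _ => 0

/-- A fixed point. -/
noncomputable def fnum (k : ℕ) : ℕ := fpts.getD k 0

/-- The row of a member. -/
noncomputable def frow (k : ℕ) : ℕ := frows.getD k 0

/-- A member on the fixed points. -/
noncomputable def fact (a q : ℕ) : ℕ := lane 9 (frow a) q

/-- The positions of the fixed points, plus one. -/
noncomputable def posTab : ℕ := scatter fpts ((List.range 360).map (· + 1))

/-- The quadratic form of plus type in dimension eight on numbers. -/
def qb8 (c : ℕ) : Bool :=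
  xor (xor (c.testBit 0 && c.testBit 4) (c.testBit 1 && c.testBit 5))
    (xor (c.testBit 2 && c.testBit 6) (c.testBit 3 && c.testBit 7))

theorem fix_check : (Nat.beq fpts.length 360 && (Nat.beq frows.length 360 && (Nat.beq vec8.length 120 &&
    (Nat.beq (fnum 0) 0 && force posTab fun T =>
    ((List.range 360).all fun k => force (fnum k) fun p =>
      Nat.blt p 3510 && (Nat.beq (lane 13 T p) (k + 1) && Nat.beq (piN p) p)) &&
      ((List.range 3510).all fun i => !Nat.beq (piN i) i || force (lane 13 T i) fun l =>
        !Nat.beq l 0 && (Nat.ble l 360 && Nat.beq (fnum (l - 1)) i)))))) = true := by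
  decide +kernel

/-- A generator has the stated row. -/
noncomputable def genRowOK (a : ℕ) (w : List ℕ) : Bool :=
  Nat.blt a 360 && (okw w && (Nat.beq (P w) (fnum a) && force (V w) fun U => force (frow a) fun R =>
    (List.range 360).all fun q => force (lane 9 R q) fun r =>
      Nat.blt r 360 && Nat.beq (lane 13 U (fnum q)) (fnum r)))

theorem gens_check : (fgens.all fun x => genRowOK x.1 x.2) = true := by decide +kernel

/-- The rows follow from an orbit script. -/
noncomputable def scriptOK : List ℕ → List (ℕ × ℕ × ℕ) → Bool
  | known, [] => (List.range 360).all fun k => known.contains k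
  | known, (new, a, old) :: l =>
    (known.contains a && known.contains old) &&
      ((force (frow a) fun A => force (frow old) fun O => force (frow new) fun R =>
        Nat.beq (lane 9 A old) new &&
          (List.range 360).all fun q => Nat.beq (lane 9 R q) (lane 9 A (lane 9 O (lane 9 A q)))) &&
        scriptOK (new :: known) l)

theorem script_check : scriptOK (fgens.map fun x => x.1) fscript = true := by decide +kernel

theorem cross_check : ((List.range 360).all fun a => force (frow a) fun A => (List.range 360).all fun q =>
    Nat.beq (a / 120) (q / 120) || !Nat.beq (lane 9 A q) q) = true := by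
  decide +kernel

theorem tree_check : ((List.range 360).all fun k => Nat.beq (k % 120) 0 || force (fpar.getD k 0) fun q =>
    Nat.blt q k && (Nat.beq (q / 120) (k / 120) && Nat.beq (fact q k) k)) = true := by
  decide +kernel

/-- A member induces a given map of the blocks. -/
noncomputable def swapOK (r : ℕ) (m : ℕ → ℕ) : Bool :=
  force (frow r) fun A => (List.range 360).all fun k => Nat.beq (lane 9 A k / 120) (m (k / 120))

theorem swap_check : (swapOK 0 (fun c => [0, 2, 1].getD c 0) && swapOK 120 (fun c => [2, 1, 0].getD c 0)) = true := by
  decide +kernel

theorem vec_check : ((List.range 120).all fun a => force (frow a) fun A => force (vec8.getD a 0) fun va =>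
    (List.range 120).all fun q => force (lane 9 A q) fun r => force (vec8.getD q 0) fun vq =>
      Nat.blt r 120 && Nat.beq (vec8.getD r 0) (bif polB qb8 va vq then Nat.xor vq va else vq)) = true := by
  decide +kernel

theorem code_check : (((List.range 120).all fun a => force (vec8.getD a 0) fun va => Nat.blt va 256 && qb8 va &&
    (List.range a).all fun b => !Nat.beq (vec8.getD b 0) va) &&
    (((List.range 256).all fun c => !qb8 c || vec8.contains c) &&
      ((List.range 8).all fun k => vec8.any fun u => vec8.contains (Nat.xor u (2 ^ k))))) = true := by
  decide +kernel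

/-- The first block is reached from the first point by its members. -/
noncomputable def reachOK : List ℕ → ℕ → Bool
  | known, 0 => (List.range 120).all fun n => known.contains n
  | known, m + 1 =>
    force (known.foldr (fun x acc => Nat.lor acc (Nat.shiftLeft 1 x)) 0) fun M =>
      reachOK ((List.range 120).filter fun n =>
        Nat.beq (Nat.land (Nat.shiftRight M n) 1) 1 || (List.range 120).any fun a =>
          Nat.beq (Nat.land (Nat.shiftRight M (fact a n)) 1) 1 && Nat.blt (fact a n) 120) m

theorem reach_check : reachOK [0] 2 = true := by decide +kernel

theorem witness_check : (force (frow 0) fun Z => (List.range 360).all fun k => Nat.beq k 0 ||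
    (List.range 120).any fun q => force (frow q) fun U =>
      Nat.beq (lane 9 U 0) 0 && !Nat.beq (lane 9 U (lane 9 Z k)) k) = true := by
  decide +kernel

end Cfsg.Agent.FischerM22.Outer
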